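import Cfsg.Agent.H327.RC.SixTwo
import Cfsg.Agent.H332.RC.GrFix
import Cfsg.Agent.H385.RC.IndPsi
import Cfsg.Agent.H194.RC.SpEx

/-!
# S3510, row D, `Sp_4(q)`, `q` even: a graph automorphism and a field automorphism in the family (helper327)

* `gr_one` : box GR (1).
-/

set_option autoImplicit false

namespace Cfsg.Agent.H327.RC

open Cfsg Module MulAction Cfsg.Agent.H520.RC Cfsg.Agent.H106.RC Cfsg.Agent.H380.RC
open Cfsg.Agent.H385.RC (IndPsi indPsi_iff indPsi_of eq_two_of_not_indPsi indAut indAut_apply)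
open Cfsg.Agent.ClassicalGeometry.SympAutSemi Cfsg.Agent.ClassicalGeometry.SympBasic

section lin

variable {F : Type*} {V : Type*} [Field F] [AddCommGroup V] [Module F V] [FiniteDimensional F V]
  {B : LinearMap.BilinForm F V} {G : Type*} [Group G] {Ω : Type*} [MulAction G Ω] {N : Subgroup G}
  {ρ : ↥(Sp B) →* G}

/-- a linear member is in `N` (characteristic two) -/
theorem mem_of_lin [Finite F] (E : SpEnv Ω N ρ) (h2 : (2 : F) = 0) {x : G} {M : SS B} (hM : Lf ρ x M) (hl : M.IsLin) :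
    x ∈ N := by
  have hchar : CharP F 2 := CharTwo.of_one_ne_zero_of_two_eq_zero one_ne_zero h2
  obtain ⟨s, hs⟩ := FiniteField.isSquare_of_char_two (ringChar.eq F 2) M.l
  have hs0 : s ≠ 0 := by
    rintro rfl
    exact M.hl (by rw [hs, mul_zero])
  let t : V ≃ₗ[F] V := hl.lin.trans (LinearEquiv.smulOfUnit (Units.mk0 s hs0)⁻¹)
  have ht : ∀ v, t v = s⁻¹ • M v := fun v => rfl
  have htB : t ∈ Sp B := by
    intro u v
    rw [ht, ht, map_smul, map_smul, LinearMap.smul_apply, hl.form, hs, smul_eq_mul, smul_eq_mul]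
    field_simp
  have h1 : x = ρ ⟨t, htB⟩ := E.eq_of_lf hM (a := s) hs0 fun v => by
    change M v = s • t v
    rw [ht, smul_smul, mul_inv_cancel₀ hs0, one_smul]
  rw [h1, ← E.range]
  exact ⟨_, rfl⟩

end lin

/-- automorphisms of a field commute with ... the fixed field of `σ` has two elements ==> every automorphism is a power
of `σ` -/
theorem mem_zpowers_of_two {F : Type*} [Field F] [Finite F] {σ : F ≃+* F} (h : Nat.card (Fx σ) = 2) (τ : F ≃+* F) :
    τ ∈ Subgroup.zpowers σ := by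
  apply Cfsg.Agent.H206.PspFix.mem_zpowers_of_fix
  intro a ha
  rw [Nat.card_eq_two_iff' (0 : Fx σ)] at h
  obtain ⟨z, hz, hz'⟩ := h
  have h1 := hz' 1 one_ne_zero
  by_cases ha0 : a = 0
  · rw [ha0, map_zero]
  · have h3 := hz' ⟨a, mem_Fx.2 ha⟩ (fun h9 => ha0 (congrArg Subtype.val h9))
    have h4 : a = 1 := congrArg Subtype.val (h3.trans h1.symm)
    rw [h4, map_one]

section pow

variable {F : Type*} {V : Type*} [Field F] [AddCommGroup V] [Module F V] [FiniteDimensional F V]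
  {B : LinearMap.BilinForm F V} {G : Type*} [Group G] {Ω : Type*} [MulAction G Ω] {N : Subgroup G}
  {ρ : ↥(Sp B) →* G}

theorem σ_pow (E : SpEnv Ω N ρ) {x : G} {M : SS B} (hM : Lf ρ x M) {n : ℕ} (hx : x ^ n = 1) : M.σ ^ n = 1 := by
  obtain ⟨a, ha, h1⟩ := E.pow_scal hM hx
  have hV := SpEnv_nontrivial E
  obtain ⟨v, hv⟩ := _root_.exists_ne (0 : V)
  ext c
  have h2 : (M ^ n) (c • v) = (M ^ n).σ c • (M ^ n) v := SS.map_smul _ _ _
  rw [SS.pow_apply, SS.pow_apply, h1, h1, pow_σ, smul_smul, smul_smul] at h2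
  have h3 : ((M.σ ^ n) c * a - a * c) • v = 0 := by rw [sub_smul, ← h2, sub_self]
  have h4 := (smul_eq_zero.1 h3).resolve_right hv
  have h5 : ((M.σ ^ n) c - c) * a = 0 := by linear_combination h4
  exact sub_eq_zero.1 ((mul_eq_zero.1 h5).resolve_right ha)

end pow

open Cfsg.Agent.H319.FC (mkE congE congE_apply congE_mem_range) in
/-- a graph automorphism does not centralise an element of order three -/
theorem no_three {F : Type} [Field F] [Finite F] [CharP F 2] (hq : 4 ≤ Nat.card F) {G : Type} [Group G]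
    {N : Subgroup G} (hN : N.Normal) (e : N ≃* PSp 2 F) {g y : G} (hg : ¬ IndPsi e g) (hy : y ∈ N) (hy1 : y ≠ 1)
    (hy3 : y ^ 3 = 1) (hgy : g * y = y * g) : False := by
  set δ : MulAut (Cfsg.Agent.H319.FC.Sp4 F) := (congE F).symm (indAut hN e g) with hδ
  set z : Cfsg.Agent.H319.FC.Sp4 F := (mkE F).symm (e ⟨y, hy⟩) with hz
  have hδr : δ ∉ (conjHom 2 F).range := by
    intro h
    rw [← congE_mem_range, hδ, MulEquiv.apply_symm_apply] at h
    exact hg ((indPsi_iff hN e g).2 h)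
  have hδz : δ z = z := by
    apply (mkE F).injective
    have h1 := congE_apply δ (e ⟨y, hy⟩)
    rw [← hz] at h1
    rw [← h1, hδ, MulEquiv.apply_symm_apply, hz, MulEquiv.apply_symm_apply]
    apply e.symm.injective
    apply Subtype.ext
    rw [indAut_apply, e.symm_apply_apply]
    change g * y * g⁻¹ = y
    rw [hgy, mul_inv_cancel_right]
  have hz1 : z ≠ 1 := by
    intro h
    have h1 : e ⟨y, hy⟩ = 1 := by
      have := congrArg (mkE F) h
      rwa [hz, MulEquiv.apply_symm_apply, map_one] at this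
    have h3 : (⟨y, hy⟩ : N) = 1 := e.injective (h1.trans (map_one e).symm)
    exact hy1 (congrArg Subtype.val h3)
  have hz3 : z ^ 3 = 1 := by
    have h1 : (⟨y, hy⟩ : N) ^ 3 = 1 := Subtype.ext hy3
    rw [hz, ← map_pow, ← map_pow, h1, map_one, map_one]
  have ho : Odd (orderOf z) := by
    have h1 : orderOf z ∣ 3 := orderOf_dvd_of_pow_eq_one hz3
    exact Odd.of_dvd_nat (by decide) h1
  refine Cfsg.Agent.H332.RC.no_quad hq hδr hδz hz1 ho ⟨1, fun v => ?_⟩
  apply Cfsg.Agent.H332.RC.no_fix hq hδr hδz hz1 ho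
  have h3 : rho 2 F z (rho 2 F z (rho 2 F z v)) = v := by
    rw [← Cfsg.Agent.H332.RC.rho_mul_apply, ← Cfsg.Agent.H332.RC.rho_mul_apply, ← pow_two, ← pow_succ, hz3,
      Cfsg.Agent.H332.RC.rho_one_apply]
  rw [one_smul, (isSemi_rho z).1, (isSemi_rho z).1, h3]
  abel

/-- **Box GR (1).** -/
theorem gr_one {F : Type} [Field F] [Finite F] (h2 : (2 : F) = 0) (hq : 3 ≤ Nat.card F) {G Ω : Type} [Group G]
    [Finite G] [MulAction G Ω] [Nonempty Ω] {N : Subgroup G} (hE : Env G Ω N) (e : N ≃* PSp 2 F)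
    (hIH : IH (Nat.card (PSp 2 F)))
    (hA6 : ∀ g : MulAut (alternatingGroup (Fin 6)), orderOf g ≠ 6 → RCe (alternatingGroup (Fin 6)) g)
    {ι : Type} [Finite ι] {x : ι → G} {r : ι → ℕ} (hx : PF x r) (hcov : Cov Ω x) (i0 : ι)
    (hi0 : ¬ IndPsi e (x i0)) (j : ι) (hj0 : j ≠ i0) (hj : x j ∉ N) : False := by
  have hN := hE.norm
  have hchar : CharP F 2 := CharTwo.of_one_ne_zero_of_two_eq_zero one_ne_zero h2
  have hq4 : 4 ≤ Nat.card F := by
    have : Fintype F := Fintype.ofFinite F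
    have h1 : ((Nat.card F : ℕ) : F) = 0 := by
      rw [Nat.card_eq_fintype_card]
      exact FiniteField.cast_card_eq_zero F
    have h3 := (CharP.cast_eq_zero_iff F 2 _).1 h1
    omega
  have hr0 : r i0 = 2 := eq_two_of_not_indPsi le_rfl (fun _ => hq) hN e hx hi0
  obtain ⟨ρ, hρr, hρk, -, hρl⟩ := Cfsg.Agent.H194.RC.exists_rho e
  have hfr : finrank F (Fin 2 ⊕ Fin 2 → F) = 4 := by
    rw [Module.finrank_fintype_fun_eq_card, Fintype.card_sum, Fintype.card_fin]
  have E : GEnv Ω N ρ := ⟨hE, Cfsg.Agent.H194.RC.nalt_symp 2 F, hρr, hρk, by rw [hfr]⟩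
  have hlift : ∀ i, i ≠ i0 → ∃ M, Lf ρ (x i) M := by
    intro i hi
    have h3 : r i ≠ 2 := fun h => hi (hx.inj (h.trans hr0.symm))
    have h4 : orderOf (x i) ∣ r i := orderOf_dvd_of_pow_eq_one (hx.pow i)
    obtain ⟨p, hp⟩ := indPsi_of le_rfl (fun _ => hq) hN e (g := x i)
      (Or.inr (((hx.prime i).odd_of_ne_two h3).of_dvd_nat h4))
    obtain ⟨M, -, hM⟩ := hρl (x i) p hp
    exact ⟨M, hM⟩
  obtain ⟨M, hM⟩ := hlift j hj0
  have hnl : ¬ M.IsLin := fun h => hj
    (mem_of_lin E.sp h2 (x := (⟨x j, M, hM⟩ : Lp ρ)) (lf_rp.2 hM) h)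
  obtain ⟨Y, b, hY, hb, hord⟩ := exists_Y E.sp (x := (⟨x j, M, hM⟩ : Lp ρ)) (lf_rp.2 hM) (hx.prime j)
    (Subtype.ext (hx.pow j)) hnl
  have hY' : Lf ρ (x j) Y := lf_rp.1 hY
  have hσ : Y.σ ≠ 1 := by
    intro h
    rw [h, orderOf_one] at hord
    exact (hx.prime j).ne_one hord.symm
  by_cases h6 : 3 ≤ Nat.card (Fx Y.σ)
  · exact gr_field E (by rwa [Nat.card_congr e.toEquiv]) h2 hx hcov j hY' hb hσ (Or.inr h6)
  have h5 : Nat.card (Fx Y.σ) = 2 := by
    have h4 : 2 ≤ Nat.card (Fx Y.σ) := Finite.one_lt_card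
    omega
  have hb' : ∀ k, Y ((b.reindex (finCongr hfr)) k) = (b.reindex (finCongr hfr)) k := fun k => by
    rw [Basis.reindex_apply]
    exact hb _
  refine gr_field_two hA6 E h2 hx hcov j hY' hb' hσ h5 (Or.inr fun i hij hi3 => ?_)
  have hii0 : i ≠ i0 := by
    rintro rfl
    omega
  obtain ⟨L, hL⟩ := hlift i hii0
  have hLl : L.IsLin := by
    have h3 : L.σ ^ 3 = 1 := by
      rw [← hi3]
      exact σ_pow E.sp (x := (⟨x i, L, hL⟩ : Lp ρ)) (lf_rp.2 hL) (Subtype.ext (hx.pow i))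
    have h4 : orderOf L.σ ∣ r j := by
      have h7 := orderOf_dvd_of_mem_zpowers (mem_zpowers_of_two h5 L.σ)
      rwa [hord] at h7
    have hco : (3 : ℕ).Coprime (r j) := by
      rw [← hi3]
      exact (Nat.coprime_primes (hx.prime i) (hx.prime j)).2 fun h => hij (hx.inj h)
    exact orderOf_eq_one_iff.1 (Nat.eq_one_of_dvd_coprimes hco (orderOf_dvd_of_pow_eq_one h3) h4)
  have hiN : x i ∈ N := mem_of_lin E.sp h2 (x := (⟨x i, L, hL⟩ : Lp ρ)) (lf_rp.2 hL) hLl
  exact no_three hq4 hN e hi0 hiN (hx.ne i) (by rw [← hi3]; exact hx.pow i) (hx.comm i0 i)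

end Cfsg.Agent.H327.RC
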