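import Cfsg.Agent.H327.RC.Fix
import Cfsg.Agent.H380.RC.Rules

/-!
# S3510, row D: field automorphisms (helper327)

* `exists_Y` : a semilinear element of prime order has a lift which fixes a basis;
* `exists_t` : the scalar for the form;
* `cent_lift` : an element centralising `Sp (V0)` is a power of the field automorphism;
* `norm_range` : an element commuting with the field automorphism normalises `Sp (V0)`;
* `sg` : the isometries `x ↦ x + B x e • w + B x w • e`; `lr_field` : the long root rule.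
-/

set_option autoImplicit false

namespace Cfsg.Agent.H327.RC

open Module MulAction Cfsg.Agent.H520.RC Cfsg.Agent.H106.RC Cfsg.Agent.H380.RC

universe u v

variable {F : Type u} {V : Type v} [Field F] [AddCommGroup V] [Module F V] {B : LinearMap.BilinForm F V}

theorem pow_σ (M : SS B) (n : ℕ) : (M ^ n).σ = M.σ ^ n := by
  induction n with
  | zero => rfl
  | succ n ih => rw [pow_succ, pow_succ, SS.mul_σ, ih]

section env

variable {G : Type*} [Group G] {ρ : ↥(Sp B) →* G} {Ω : Type*} [MulAction G Ω] {N : Subgroup G}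

theorem SpEnv_nontrivial (E : SpEnv Ω N ρ) : Nontrivial V :=
  Module.nontrivial_of_finrank_pos (R := F) (by have := E.dim; omega)

/-- descent -/
theorem exists_Y [Finite F] [FiniteDimensional F V] (E : SpEnv Ω N ρ) {x : G} {M : SS B} (hM : Lf ρ x M) {r : ℕ}
    (hr : r.Prime) (hx : x ^ r = 1) (hσ : ¬ M.IsLin) :
    ∃ (Y : SS B) (b : Basis (Fin (finrank F V)) F V), Lf ρ x Y ∧ (∀ i, Y (b i) = b i) ∧ orderOf Y.σ = r := by
  obtain ⟨a, ha, h1⟩ := E.pow_scal hM hx
  have hV := SpEnv_nontrivial E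
  obtain ⟨v, hv⟩ := exists_ne (0 : V)
  have hfr := Fact.mk hr
  have hord : orderOf M.σ = r := by
    refine orderOf_eq_prime ?_ hσ
    ext c
    have h2 : (M ^ r) (c • v) = (M ^ r).σ c • (M ^ r) v := SS.map_smul _ _ _
    rw [SS.pow_apply, SS.pow_apply, h1, h1, pow_σ, smul_smul, smul_smul] at h2
    have h3 : ((M.σ ^ r) c * a - a * c) • v = 0 := by rw [sub_smul, ← h2, sub_self]
    have h4 := (smul_eq_zero.1 h3).resolve_right hv
    have h5 : ((M.σ ^ r) c - c) * a = 0 := by linear_combination h4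
    exact sub_eq_zero.1 ((mul_eq_zero.1 h5).resolve_right ha)
  obtain ⟨d, hd, b, hb⟩ := descent M.σ r hr.pos hord M.f M.map_smul a h1
  refine ⟨SS.sc B d hd * M, b, hM.of_scal ⟨d, hd, fun v => rfl⟩, fun i => ?_, ?_⟩
  · exact hb i
  · change orderOf ((SS.sc B d hd).σ * M.σ) = r
    change orderOf (1 * M.σ) = r
    rw [one_mul, hord]

/-- the scalar for the form -/
theorem exists_t (h : NAlt B) {Y : SS B} {n : ℕ} {b : Basis (Fin n) F V} (hb : ∀ i, Y (b i) = b i) [Nontrivial V] :
    ∃ t : F, t ≠ 0 ∧ Y.l * Y.σ t = t := by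
  by_contra hcon
  push Not at hcon
  obtain ⟨v, hv⟩ := exists_ne (0 : V)
  apply hv
  apply h.nd
  have h1 : B = 0 := by
    refine b.ext fun i => b.ext fun j => ?_
    by_contra h2
    have h3 := Y.form (b i) (b j)
    rw [hb, hb] at h3
    exact hcon _ h2 h3.symm
  intro y
  rw [h1]
  rfl

/-- the parameter of a transvection is determined -/
theorem tv_inj (E : SpEnv Ω N ρ) [FiniteDimensional F V] {e : V} (he : e ≠ 0) {c d : F}
    (h : ρ (tv E.form e c) = ρ (tv E.form e d)) : c = d := by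
  by_contra hcd
  have h1 : ρ (tv E.form e (c - d)) = 1 := by
    rw [sub_eq_add_neg, tv_add, map_mul, ← tv_inv, map_inv, h, mul_inv_cancel]
  obtain ⟨a, ha⟩ := (E.ker _).1 h1
  have h2 := ha e
  rw [tv_apply, E.form.alt, mul_zero, zero_smul, add_zero] at h2
  have ha1 : a = 1 := by
    have h3 : (a - 1) • e = 0 := by rw [sub_smul, one_smul, ← h2, sub_self]
    exact sub_eq_zero.1 ((smul_eq_zero.1 h3).resolve_right he)
  apply tv_ne_one E.form he (sub_ne_zero.2 hcd)
  apply Subtype.ext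
  apply LinearEquiv.ext
  intro v
  rw [ha v, ha1, one_smul]
  rfl

section cent

variable {Y : SS B} {n : ℕ} {b : Basis (Fin n) F V} (hb : ∀ i, Y (b i) = b i) {t : F} (ht0 : t ≠ 0)
  (ht : Y.l * Y.σ t = t)

/-- lines of the fixed vectors are invariant under the elements of the centraliser -/
theorem line_inv [FiniteDimensional F V] (E : SpEnv Ω N ρ) {y : G} {L : SS B} (hL : Lf ρ y L)
    (hc : ∀ m : Sp (B0 ht0 ht), y * ρ (ext ht0 ht hb m) = ρ (ext ht0 ht hb m) * y) (e : V0 Y) :
    ∃ a : F, L (e : V) = a • (e : V) := by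
  have h1 := hc (tv (nalt_B0 ht0 ht hb E.form) e 1)
  rw [ext_tv ht0 ht hb E.form] at h1
  have h2 := hL (tv E.form (e : V) (((1 : Fx Y.σ) : F) * t⁻¹))
  rw [h1, mul_inv_cancel_right, cj_tv] at h2
  refine E.line_of_eq ?_ h2.symm
  have h3 : ((1 : Fx Y.σ) : F) * t⁻¹ ≠ 0 := by
    change (1 : F) * t⁻¹ ≠ 0
    rw [one_mul]
    exact inv_ne_zero ht0
  exact mul_ne_zero ((map_ne_zero L.σ).2 h3) (inv_ne_zero L.hl)

/-- **the centraliser of `Sp (V0)`** -/
theorem cent_lift [Finite F] [FiniteDimensional F V] (E : SpEnv Ω N ρ) {x y : G} (hY : Lf ρ x Y) {L : SS B}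
    (hL : Lf ρ y L) (hc : ∀ m : Sp (B0 ht0 ht), y * ρ (ext ht0 ht hb m) = ρ (ext ht0 ht hb m) * y) :
    ∃ k : ℕ, y = x ^ k := by
  have hn : n = finrank F V := by rw [Module.finrank_eq_card_basis b, Fintype.card_fin]
  have hn4 : 4 ≤ n := by rw [hn]; exact E.dim
  have hbm : ∀ i, b i ∈ V0 Y := hb
  have hline := fun e : V0 Y => line_inv hb ht0 ht E hL hc e
  choose a ha using fun i => hline ⟨b i, hbm i⟩
  have hli := b.linearIndependent
  -- `L (b i + c b j)` for `c` in the fixed field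
  have key : ∀ i j : Fin n, i ≠ j → ∀ c : Fx Y.σ, L.σ (c : F) * a j = a i * c := by
    intro i j hij c
    obtain ⟨d, hd⟩ := hline ⟨b i + (c : F) • b j, (V0 Y).add_mem (hbm i) ((V0 Y).smul_mem c (hbm j))⟩
    change L (b i + (c : F) • b j) = d • (b i + (c : F) • b j) at hd
    have hi : L (b i) = a i • b i := ha i
    have hj : L (b j) = a j • b j := ha j
    rw [L.map_add, L.map_smul, hi, hj, smul_add, smul_smul, smul_smul] at hd
    have h1 := congrArg (fun v => b.repr v i) hd
    have h2 := congrArg (fun v => b.repr v j) hd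
    simp only [map_add, map_smul, b.repr_self, Finsupp.add_apply, Finsupp.smul_apply, Finsupp.single_apply,
      smul_eq_mul, if_neg hij.symm, if_neg hij, if_true, mul_one, mul_zero, add_zero, zero_add] at h1 h2
    rw [h2, h1]
  have hone : ∀ i j : Fin n, a i = a j := by
    intro i j
    by_cases hij : i = j
    · rw [hij]
    · have h1 := key i j hij 1
      have h2 : L.σ ((1 : Fx Y.σ) : F) = 1 := map_one L.σ
      rw [h2, one_mul] at h1
      have h3 : a j = a i * 1 := h1
      rw [mul_one] at h3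
      exact h3.symm
  have i0 : Fin n := ⟨0, by omega⟩
  obtain ⟨i1, hi1⟩ : ∃ i1 : Fin n, i0 ≠ i1 := by
    by_contra hno
    push Not at hno
    have h1 : (⟨0, by omega⟩ : Fin n) = ⟨1, by omega⟩ := (hno _).symm.trans (hno _)
    exact absurd (congrArg Fin.val h1) (by norm_num)
  have ha0 : a i0 ≠ 0 := by
    intro h0
    have h1 : L (b i0) = a i0 • b i0 := ha i0
    rw [h0, zero_smul, ← L.map_zero] at h1
    exact b.ne_zero i0 (L.injective h1)
  -- `L.σ` fixes the fixed field
  have hfix : ∀ c : Fx Y.σ, L.σ (c : F) = c := by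
    intro c
    have h1 := key i0 i1 hi1 c
    rw [← hone i0 i1, mul_comm] at h1
    exact mul_left_cancel₀ ha0 h1
  obtain ⟨k, hk⟩ : ∃ k : ℕ, Y.σ ^ k = L.σ := by
    have hfin : Finite (F ≃+* F) := Finite.of_injective (fun e : F ≃+* F => (e : F → F)) DFunLike.coe_injective
    let τ : F ≃ₐ[Fx Y.σ] F := AlgEquiv.ofRingEquiv (f := L.σ) hfix
    obtain ⟨g, hg⟩ := (FixedPoints.toAlgAut_bijective (Subgroup.zpowers Y.σ) F).2 τ
    have h1 : (g : F ≃+* F) = L.σ := by
      ext c
      have := congrArg (fun f : F ≃ₐ[Fx Y.σ] F => f c) hg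
      exact this
    have h2 : L.σ ∈ Subgroup.zpowers Y.σ := by rw [← h1]; exact g.2
    exact (isOfFinOrder_of_finite Y.σ).mem_powers_iff_mem_zpowers.2 h2
  refine ⟨k, ?_⟩
  -- `L = a Y ^ k`
  have hYk : ∀ i, (Y ^ k) (b i) = b i := by
    intro i
    rw [SS.pow_apply]
    exact Function.iterate_fixed (hb i) k
  have hmap : ∀ v, L v = a i0 • (Y ^ k) v := by
    intro v
    have h1 : L v = ∑ i, L.σ (b.repr v i) • L (b i) := by
      conv_lhs => rw [← b.sum_repr v]
      rw [_root_.map_sum L.f]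
      exact Finset.sum_congr rfl fun i _ => L.map_smul _ _
    have h2 : (Y ^ k) v = ∑ i, (Y ^ k).σ (b.repr v i) • (Y ^ k) (b i) := by
      conv_lhs => rw [← b.sum_repr v]
      rw [_root_.map_sum (Y ^ k).f]
      exact Finset.sum_congr rfl fun i _ => SS.map_smul _ _ _
    rw [h1, h2, Finset.smul_sum]
    refine Finset.sum_congr rfl fun i _ => ?_
    have h3 : L (b i) = a i • b i := ha i
    rw [h3, hYk, pow_σ, hk, hone i i0, smul_smul, smul_smul, mul_comm]
  have h1 : Lf ρ (y * (x ^ k)⁻¹) (L * (Y ^ k)⁻¹) := hL.mul (hY.pow k).inv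
  refine mul_inv_eq_one.1 ((E.eq_one_iff h1).2 ⟨a i0, ha0, fun v => ?_⟩)
  obtain ⟨v, rfl⟩ := (Y ^ k).surjective v
  rw [SS.mul_apply, SS.inv_apply_self, hmap]

/-- **elements commuting with the field automorphism normalise `Sp (V0)`** -/
theorem norm_cj [FiniteDimensional F V] (E : SpEnv Ω N ρ) {x y : G} (hY : Lf ρ x Y) {L : SS B}
    (hL : Lf ρ y L) (hxy : x * y = y * x) (m : Sp (B0 ht0 ht)) :
    ∃ m' : Sp (B0 ht0 ht), SS.cj L (ext ht0 ht hb m) = ext ht0 ht hb m' := by
  obtain ⟨a, -, ha⟩ := E.lf_comm hY hL hxy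
  have h1 : SS.cj Y (SS.cj L (ext ht0 ht hb m)) = SS.cj L (ext ht0 ht hb m) := by
    refine SS.cj_eq fun v => ?_
    obtain ⟨w, rfl⟩ := L.surjective v
    have h2 : ∀ w, (ext ht0 ht hb m).1 (Y w) = Y ((ext ht0 ht hb m).1 w) := fun w => by
      rw [← SS.cj_apply, ext_fix]
    rw [ha, map_smul, SS.cj_apply, SS.cj_apply, h2, ha]
  obtain ⟨m', hm'⟩ := exists_ext ht0 ht hb h1
  exact ⟨m', hm'.symm⟩

theorem norm_range [FiniteDimensional F V] (E : SpEnv Ω N ρ) {x y : G} (hY : Lf ρ x Y) {L : SS B}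
    (hL : Lf ρ y L) (hxy : x * y = y * x) (m : Sp (B0 ht0 ht)) :
    ∃ m' : Sp (B0 ht0 ht), y * ρ (ext ht0 ht hb m) * y⁻¹ = ρ (ext ht0 ht hb m') := by
  obtain ⟨m', hm'⟩ := norm_cj hb ht0 ht E hY hL hxy m
  exact ⟨m', by rw [← hm', hL]⟩

end cent

end env

/-! ### the isometries `x ↦ x + B x e • w + B x w • e` -/

section sg

/-- `x ↦ x + B x e • w + B x w • e` for `B e w = 0` -/
def sg (h : NAlt B) (e w : V) (hew : B e w = 0) : Sp B :=
  ⟨{ toFun := fun x => x + B x e • w + B x w • e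
     invFun := fun x => x - B x e • w - B x w • e
     left_inv := fun x => by
      have hwe := h.swap0 hew
      simp only [map_add, LinearMap.add_apply, map_smul, LinearMap.smul_apply, smul_eq_mul, h.alt, hew, hwe,
        mul_zero, add_zero]
      abel
     right_inv := fun x => by
      have hwe := h.swap0 hew
      simp only [map_sub, LinearMap.sub_apply, map_smul, LinearMap.smul_apply, smul_eq_mul, h.alt, hew, hwe,
        mul_zero, sub_zero]
      abel
     map_add' := fun x y => by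
      simp only [map_add, LinearMap.add_apply, add_smul]
      abel
     map_smul' := fun a x => by
      simp only [map_smul, LinearMap.smul_apply, smul_eq_mul, RingHom.id_apply, smul_add, smul_smul] }, by
    intro x y
    have hwe := h.swap0 hew
    show B (x + B x e • w + B x w • e) (y + B y e • w + B y w • e) = B x y
    simp only [map_add, LinearMap.add_apply, map_smul, LinearMap.smul_apply, smul_eq_mul, h.alt, hew, hwe, mul_zero,
      add_zero]
    rw [h.swap e y, h.swap w y]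
    ring⟩

variable (h : NAlt B)

@[simp] theorem sg_apply (e w : V) (hew : B e w = 0) (x : V) :
    (sg h e w hew).1 x = x + B x e • w + B x w • e := rfl

theorem sp_mul_apply (s t : Sp B) (v : V) : (s * t).1 v = s.1 (t.1 v) := rfl

theorem sp_ext {s t : Sp B} (h : ∀ v, s.1 v = t.1 v) : s = t := Subtype.ext (LinearEquiv.ext h)

theorem sg_tv (e w : V) (hew : B e w = 0) (c : F) : sg h e w hew * tv h e c = tv h e c * sg h e w hew := by
  have hwe := h.swap0 hew
  refine sp_ext fun x => ?_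
  rw [sp_mul_apply, sp_mul_apply, sg_apply, tv_apply, tv_apply, sg_apply]
  simp only [map_add, LinearMap.add_apply, map_smul, LinearMap.smul_apply, smul_eq_mul, h.alt, hew, hwe, mul_zero,
    add_zero]
  abel

theorem sg_mul (e w w' : V) (hew : B e w = 0) (hew' : B e w' = 0) :
    sg h e w hew * sg h e w' hew' =
      tv h e (B w' w) * sg h e (w + w') (by rw [map_add, hew, hew', add_zero]) := by
  have hwe := h.swap0 hew
  have hwe' := h.swap0 hew'
  refine sp_ext fun x => ?_
  rw [sp_mul_apply, sp_mul_apply, sg_apply, tv_apply, sg_apply, sg_apply]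
  simp only [map_add, LinearMap.add_apply, map_smul, LinearMap.smul_apply, smul_eq_mul, h.alt, hew, hwe, hwe',
    mul_zero, add_zero, smul_add, add_smul]
  rw [mul_comm (B x e) (B w' w)]
  abel

theorem sg_zero (e : V) (h0 : B e 0 = 0) : sg h e 0 h0 = 1 := by
  refine sp_ext fun x => ?_
  rw [sg_apply, smul_zero, add_zero, map_zero, zero_smul, add_zero]
  rfl

theorem sg_inv (e w : V) (hew : B e w = 0) :
    (sg h e w hew)⁻¹ = sg h e (-w) (by rw [map_neg, hew, neg_zero]) := by
  rw [inv_eq_iff_mul_eq_one]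
  refine sp_ext fun x => ?_
  have hwe := h.swap0 hew
  rw [sp_mul_apply, sg_apply, sg_apply]
  simp only [map_add, map_neg, LinearMap.add_apply, LinearMap.neg_apply, map_smul, LinearMap.smul_apply, smul_eq_mul,
    h.alt, hew, hwe, mul_zero, add_zero, neg_zero, smul_neg, neg_smul]
  change _ = x
  abel

/-- the commutator -/
theorem sg_comm (e w w' : V) (hew : B e w = 0) (hew' : B e w' = 0) :
    sg h e w hew * sg h e w' hew' = tv h e (2 * B w' w) * (sg h e w' hew' * sg h e w hew) := by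
  rw [sg_mul, sg_mul, ← mul_assoc, ← tv_add]
  have h1 : 2 * B w' w + B w w' = B w' w := by
    rw [h.swap w w']
    ring
  rw [h1]
  congr 1
  refine sp_ext fun x => ?_
  rw [sg_apply, sg_apply, add_comm w w']

/-- conjugates -/
theorem cj_sg (Y : SS B) (e w : V) (he : Y e = e) (hew : B e w = 0) :
    SS.cj Y (sg h e w hew) = sg h e (Y.l⁻¹ • Y w) (by
      rw [map_smul]
      nth_rewrite 1 [← he]
      rw [Y.form, hew, map_zero, mul_zero, smul_zero]) := by
  refine SS.cj_eq fun v => ?_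
  rw [sg_apply, sg_apply, Y.map_add, Y.map_add, Y.map_smul, Y.map_smul, he, map_smul, Y.form, smul_smul]
  have h1 : B (Y v) e = Y.l * Y.σ (B v e) := by
    nth_rewrite 1 [← he]
    rw [Y.form]
  have hl := Y.hl
  rw [h1, smul_eq_mul, inv_mul_cancel_left₀ hl, mul_comm, inv_mul_cancel_left₀ hl]

end sg

/-! ### the long root rule -/

section lr

variable (h : NAlt B)

include h

theorem exists_perp [FiniteDimensional F V] (hd : 3 ≤ finrank F V) (e : V) :
    ∃ w : V, B e w = 0 ∧ ∀ a : F, w ≠ a • e := by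
  by_contra hno
  push Not at hno
  have h1 : LinearMap.ker (B e) ≤ Submodule.span F {e} := by
    intro w hw
    obtain ⟨a, rfl⟩ := hno w (LinearMap.mem_ker.1 hw)
    exact Submodule.smul_mem _ _ (Submodule.mem_span_singleton_self e)
  have h2 := Submodule.finrank_mono h1
  have h3 : finrank F (Submodule.span F {e}) ≤ 1 := by
    refine (finrank_span_le_card (R := F) {e}).trans ?_
    simp
  have h4 := LinearMap.finrank_range_add_finrank_ker (B e)
  have h5 : finrank F (LinearMap.range (B e)) ≤ 1 := by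
    calc finrank F (LinearMap.range (B e)) ≤ finrank F F := Submodule.finrank_le _
      _ = 1 := finrank_self F
  omega

theorem exists_sep {e d : V} (he : e ≠ 0) (hd : ∀ a : F, d ≠ a • e) {c : F} :
    ∃ v : V, B e v = 0 ∧ B d v = c := by
  have h1 : ∃ v : V, B e v = 0 ∧ B d v ≠ 0 := by
    by_contra hno
    push Not at hno
    obtain ⟨k, hk⟩ := h.exists_one he
    apply hd (B d k)
    rw [← sub_eq_zero]
    refine h.nd _ fun g => ?_
    have h2 := hno (g - B e g • k) (by rw [map_sub, map_smul, hk, smul_eq_mul, mul_one, sub_self])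
    rw [map_sub, map_smul, smul_eq_mul] at h2
    rw [map_sub, map_smul, LinearMap.sub_apply, LinearMap.smul_apply, smul_eq_mul]
    linear_combination h2
  obtain ⟨v, hv, hv'⟩ := h1
  exact ⟨(c * (B d v)⁻¹) • v, by rw [map_smul, hv, smul_zero],
    by rw [map_smul, smul_eq_mul, inv_mul_cancel_right₀ hv']⟩

theorem exists_move' [FiniteDimensional F V] (hd : 3 ≤ finrank F V) {Y : SS B} (hσ : Y.σ ≠ 1) (e : V) :
    ∃ w : V, B e w = 0 ∧ ∀ a : F, w + -(Y.l⁻¹ • Y w) ≠ a • e := by
  obtain ⟨w, hw, hwe⟩ := exists_perp h hd e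
  by_cases h1 : ∀ a : F, w + -(Y.l⁻¹ • Y w) ≠ a • e
  · exact ⟨w, hw, h1⟩
  push Not at h1
  obtain ⟨k, hk⟩ := h1
  obtain ⟨α, hα⟩ : ∃ α, Y.σ α ≠ α := by
    by_contra hno
    push Not at hno
    exact hσ (RingEquiv.ext hno)
  refine ⟨α • w, by rw [map_smul, hw, smul_zero], fun a ha => ?_⟩
  have h2 : Y.l⁻¹ • Y w = w - k • e := by rw [← hk]; abel
  rw [Y.map_smul, smul_comm, h2, smul_sub] at ha
  have h3 : (α - Y.σ α) • w = (a - Y.σ α * k) • e := by
    rw [sub_smul, sub_smul, ← ha, mul_smul]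
    abel
  apply hwe ((α - Y.σ α)⁻¹ * (a - Y.σ α * k))
  rw [mul_smul, ← h3, smul_smul, inv_mul_cancel₀ (sub_ne_zero.2 (Ne.symm hα)), one_smul]

end lr

section lr'

variable {G : Type*} [Group G] {ρ : ↥(Sp B) →* G} {Ω : Type*} [MulAction G Ω] {N : Subgroup G}

/-- **The long root rule for a field automorphism.** -/
theorem lr_field [FiniteDimensional F V] [Nonempty Ω] (E : SpEnv Ω N ρ) (h2 : (2 : F) ≠ 0) {x : G} {Y : SS B}
    (hY : Lf ρ x Y) (hσ : Y.σ ≠ 1) {e : V} (he0 : e ≠ 0) (he : Y e = e) {c : F} (hc : c ≠ 0)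
    (hcov : ∀ ω : Ω, ρ (tv E.form e c) • ω = ω ∨ x • ω = ω) : False := by
  obtain ⟨w, hw, hd⟩ := exists_move' E.form (by have := E.dim; omega) hσ e
  obtain ⟨v, hv, hdv⟩ := exists_sep E.form he0 hd (c := 2⁻¹ * c)
  have hdw : B e (Y.l⁻¹ • Y w) = 0 := by
    rw [map_smul]
    nth_rewrite 1 [← he]
    rw [Y.form, hw, map_zero, mul_zero, smul_zero]
  have hdd : B e (w + -(Y.l⁻¹ • Y w)) = 0 := by rw [map_add, map_neg, hw, hdw, neg_zero, add_zero]
  have hcomm : ∀ (u : V) (hu : B e u = 0), ρ (sg E.form e u hu) ∈ Subgroup.centralizer ({ρ (tv E.form e c)} : Set G) := by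
    intro u hu
    rw [Subgroup.mem_centralizer_singleton_iff, ← map_mul, ← map_mul, sg_tv]
  refine not_cov_one E.env (U := Subgroup.centralizer ({ρ (tv E.form e c)} : Set G)) hcov ?_ ?_ ?_
  · intro u hu
    exact Subgroup.mem_centralizer_singleton_iff.1 hu
  · intro h1
    apply hc
    refine tv_inj E he0 ?_
    rw [h1, tv_zero, map_one]
  · have h3 := mem_cmm (x := x) (hcomm w hw)
    have h4 := cmm_comm (hcomm v hv) h3
    have h5 : ρ (sg E.form e w hw) * x * (ρ (sg E.form e w hw))⁻¹ * x⁻¹ =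
        ρ (tv E.form e (B (-(Y.l⁻¹ • Y w)) w) * sg E.form e (w + -(Y.l⁻¹ • Y w)) hdd) := by
      have h6 : ρ (sg E.form e w hw) * x * (ρ (sg E.form e w hw))⁻¹ * x⁻¹ =
          ρ (sg E.form e w hw) * (x * ρ (sg E.form e w hw) * x⁻¹)⁻¹ := by group
      rw [h6, hY, cj_sg E.form Y e w he hw, ← map_inv, ← map_mul, sg_inv, sg_mul]
    rw [h5] at h4
    rw [← map_inv, ← map_mul, ← map_inv, ← map_mul, ← map_mul] at h4
    have h7 : sg E.form e v hv * (tv E.form e (B (-(Y.l⁻¹ • Y w)) w) * sg E.form e (w + -(Y.l⁻¹ • Y w)) hdd) *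
        (sg E.form e v hv)⁻¹ * (tv E.form e (B (-(Y.l⁻¹ • Y w)) w) * sg E.form e (w + -(Y.l⁻¹ • Y w)) hdd)⁻¹ =
        tv E.form e c := by
      have h8 := sg_tv E.form e v hv (B (-(Y.l⁻¹ • Y w)) w)
      have h9 := sg_comm E.form e v (w + -(Y.l⁻¹ • Y w)) hv hdd
      have h10 : (2 : F) * B (w + -(Y.l⁻¹ • Y w)) v = c := by rw [hdv, mul_inv_cancel_left₀ h2]
      rw [h10] at h9
      have h11 : tv E.form e (B (-(Y.l⁻¹ • Y w)) w) * tv E.form e c =
          tv E.form e c * tv E.form e (B (-(Y.l⁻¹ • Y w)) w) := by rw [← tv_add, ← tv_add, add_comm]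
      rw [← mul_assoc, h8, mul_assoc (tv E.form e (B (-(Y.l⁻¹ • Y w)) w)), h9, ← mul_assoc, h11]
      group
    rwa [h7] at h4

end lr'

end Cfsg.Agent.H327.RC
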