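import Cfsg.Agent.H327.RC.Semi
import Cfsg.Agent.H520.RC.SpLR

/-!
# S3510, row D, `q` even: the end of the field automorphism case (helper327)

* `Pe` : the elementary abelian group of the `ph hw c` (characteristic two);
* `cm_ph` : commutators of `ph hw c` with a semisimilitude fixing `e`;
* `field_end` : `{ρ y, x}` is not a cover, `x` a field automorphism, `y = tv a t⁻¹ * tv b t⁻¹` of order three.
-/

set_option autoImplicit false

namespace Cfsg.Agent.H327.RC

open Module MulAction Cfsg.Agent.H520.RC Cfsg.Agent.H106.RC Cfsg.Agent.H380.RC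

section lin

variable {F : Type*} {V : Type*} [Field F] [AddCommGroup V] [Module F V] {B : LinearMap.BilinForm F V}

/-- the elements `ph` -/
def Pe (hB : NAlt B) (e : V) : Subgroup (Sp B) where
  carrier := {g | ∃ (w : V) (hw : B w e = 0) (c : F), g = ph hB hw c}
  one_mem' := ⟨0, by rw [map_zero, LinearMap.zero_apply], 0, by rw [ph_zero, tv_zero]⟩
  mul_mem' := by
    rintro _ _ ⟨w, hw, c, rfl⟩ ⟨w', hw', c', rfl⟩
    exact ⟨_, pa hw hw', _, ph_mul hB hw hw' c c'⟩
  inv_mem' := by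
    rintro _ ⟨w, hw, c, rfl⟩
    exact ⟨_, pn hw, _, ph_inv hB hw c⟩

theorem ph_mem_Pe (hB : NAlt B) {e w : V} (hw : B w e = 0) (c : F) : ph hB hw c ∈ Pe hB e := ⟨w, hw, c, rfl⟩

theorem tv_mem_Pe (hB : NAlt B) (e : V) (c : F) : tv hB e c ∈ Pe hB e := by
  have h0 : B 0 e = 0 := by rw [map_zero, LinearMap.zero_apply]
  rw [← ph_zero hB h0]
  exact ph_mem_Pe hB h0 c

theorem Pe_ab (hB : NAlt B) (h2 : (2 : F) = 0) {e : V} {g h : Sp B} (hg : g ∈ Pe hB e) (hh : h ∈ Pe hB e) :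
    g * h = h * g := by
  obtain ⟨w, hw, c, rfl⟩ := hg
  obtain ⟨w', hw', c', rfl⟩ := hh
  have h1 := ph_comm hB hw hw' c c'
  rw [h2, zero_mul, tv_zero] at h1
  exact mul_inv_eq_iff_eq_mul.1 (mul_inv_eq_one.1 h1)

theorem ph_self (hB : NAlt B) (h2 : (2 : F) = 0) {e w : V} (hw : B w e = 0) (c : F) :
    ph hB hw c * ph hB hw c = 1 := by
  have h0 : B 0 e = 0 := by rw [map_zero, LinearMap.zero_apply]
  rw [ph_mul, ph_congr hB _ h0 (c' := 0) (by rw [← two_smul F w, h2, zero_smul])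
    (by rw [hB.alt, add_zero, ← two_mul, h2, zero_mul]), ph_zero, tv_zero]

theorem ph_inv2 (hB : NAlt B) (h2 : (2 : F) = 0) {e w : V} (hw : B w e = 0) (c : F) :
    (ph hB hw c)⁻¹ = ph hB hw c := by
  rw [inv_eq_iff_mul_eq_one, ph_self hB h2]

theorem cj_Pe (hB : NAlt B) {e : V} (he0 : e ≠ 0) (M : SS B) {μ : F} (he : M e = μ • e) {g : Sp B}
    (hg : g ∈ Pe hB e) : SS.cj M g ∈ Pe hB e := by
  obtain ⟨w, hw, c, rfl⟩ := hg
  have hμ : μ ≠ 0 := by
    rintro rfl
    rw [zero_smul] at he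
    exact he0 (M.injective (he.trans M.map_zero.symm))
  have hw' : B ((M.l⁻¹ * μ) • M w) e = 0 := by
    have h1 : B (M w) (M e) = 0 := by rw [M.form, hw, map_zero, mul_zero]
    rw [he, map_smul, smul_eq_mul] at h1
    rw [map_smul, LinearMap.smul_apply, (mul_eq_zero.1 h1).resolve_left hμ, smul_zero]
  rw [cj_ph hB hw c M hμ he hw']
  exact ph_mem_Pe hB hw' _

theorem lw {M : SS B} {e w : V} (he : M e = e) (hw : B w e = 0) : B (M.l⁻¹ • M w) e = 0 := by
  rw [map_smul, LinearMap.smul_apply]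
  nth_rewrite 1 [← he]
  rw [M.form, hw, map_zero, mul_zero, smul_zero]

theorem cj_ph_one (hB : NAlt B) {e w : V} (hw : B w e = 0) (c : F) (M : SS B) (he : M e = e) :
    SS.cj M (ph hB hw c) = ph hB (lw he hw) (M.σ c * M.l⁻¹) := by
  have he1 : M e = (1 : F) • e := by rw [one_smul, he]
  have hw' : B ((M.l⁻¹ * 1) • M w) e = 0 := by rw [mul_one]; exact lw he hw
  rw [cj_ph hB hw c M one_ne_zero he1 hw']
  exact ph_congr hB _ _ (by rw [mul_one]) (by rw [mul_one, mul_one])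

variable {G : Type*} [Group G] {ρ : ↥(Sp B) →* G}

/-- commutators -/
theorem cm_ph (hB : NAlt B) (h2 : (2 : F) = 0) {e w : V} (hw : B w e = 0) (c : F) {x : G} {M : SS B} (hM : Lf ρ x M)
    (he : M e = e) :
    ρ (ph hB hw c) * x * (ρ (ph hB hw c))⁻¹ * x⁻¹ =
      ρ (ph hB (pa hw (lw he hw)) (c + M.σ c * M.l⁻¹ + B (M.l⁻¹ • M w) w)) := by
  have h1 : ρ (ph hB hw c) * x * (ρ (ph hB hw c))⁻¹ * x⁻¹ =
      ρ (ph hB hw c) * (x * ρ (ph hB hw c) * x⁻¹)⁻¹ := by group
  rw [h1, hM, cj_ph_one hB hw c M he, ← map_inv, ph_inv2 hB h2, ← map_mul, ph_mul]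

theorem exists_orth2 [FiniteDimensional F V] (hd : 3 ≤ finrank F V) (a b : V) :
    ∃ e : V, e ≠ 0 ∧ B a e = 0 ∧ B b e = 0 := by
  have h3 : finrank F V ≤ finrank F (LinearMap.ker (B a)) + 1 := by
    have := LinearMap.finrank_range_add_finrank_ker (B a)
    have h4 : finrank F (LinearMap.range (B a)) ≤ 1 := by
      calc finrank F (LinearMap.range (B a)) ≤ finrank F F := Submodule.finrank_le _
        _ = 1 := finrank_self F
    omega
  have h5 : finrank F V ≤ finrank F (LinearMap.ker (B b)) + 1 := by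
    have := LinearMap.finrank_range_add_finrank_ker (B b)
    have h4 : finrank F (LinearMap.range (B b)) ≤ 1 := by
      calc finrank F (LinearMap.range (B b)) ≤ finrank F F := Submodule.finrank_le _
        _ = 1 := finrank_self F
    omega
  have h6 := Submodule.finrank_sup_add_finrank_inf_eq (LinearMap.ker (B a)) (LinearMap.ker (B b))
  have h7 := Submodule.finrank_le (LinearMap.ker (B a) ⊔ LinearMap.ker (B b))
  have : Nontrivial ↥(LinearMap.ker (B a) ⊓ LinearMap.ker (B b)) :=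
    Module.nontrivial_of_finrank_pos (R := F) (by omega)
  obtain ⟨⟨w, hw⟩, hw0⟩ := exists_ne (0 : ↥(LinearMap.ker (B a) ⊓ LinearMap.ker (B b)))
  exact ⟨w, fun h => hw0 (Subtype.ext h), LinearMap.mem_ker.1 hw.1, LinearMap.mem_ker.1 hw.2⟩

end lin

section rule

variable {F : Type*} {V : Type*} [Field F] [AddCommGroup V] [Module F V] {B : LinearMap.BilinForm F V}
  {G : Type*} [Group G] {Ω : Type*} [MulAction G Ω] {N : Subgroup G} {ρ : ↥(Sp B) →* G}

/-- the rule for two commuting elements (one of them of odd prime order) and the group `Pe` -/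
theorem two_rule [Finite G] [Nonempty Ω] (E : SpEnv Ω N ρ) (h2 : (2 : F) = 0) {e : V} (he0 : e ≠ 0)
    {x y : G} {X Y : SS B} (hX : Lf ρ x X) (hY : Lf ρ y Y) {μ ν : F} (hXe : X e = μ • e) (hYe : Y e = ν • e)
    {r s : ℕ} (hr : r.Prime) (hs : s.Prime) (hs2 : s ≠ 2) (hxr : x ^ r = 1) (hys : y ^ s = 1) (hxy : x * y = y * x)
    (hcov : ∀ ω : Ω, y • ω = ω ∨ x • ω = ω) {g : G} (hg1 : g ≠ 1) (hgx : g ∈ cmm ((Pe E.form e).map ρ) x)
    (hgy : g ∈ cmm ((Pe E.form e).map ρ) y) : False := by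
  have hpg : IsPGroup 2 ((Pe E.form e).map ρ) := by
    rintro ⟨_, u, ⟨w, hw, c, rfl⟩, rfl⟩
    refine ⟨1, Subtype.ext ?_⟩
    change (ρ (ph E.form hw c)) ^ (2 ^ 1) = 1
    rw [pow_one, pow_two, ← map_mul, ph_self E.form h2, map_one]
  have : Fact (Nat.Prime 2) := ⟨Nat.prime_two⟩
  obtain ⟨k, hk⟩ := IsPGroup.iff_card.1 hpg
  have hco : s.Coprime (Nat.card ((Pe E.form e).map ρ)) := by
    rw [hk]
    exact Nat.Coprime.pow_right _ ((Nat.coprime_primes hs Nat.prime_two).2 hs2)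
  refine E.env.not_all hg1 fun ω => ?_
  obtain ⟨i, hi⟩ := cover_loc (x := ![y, x]) (r := ![s, r]) (U := (Pe E.form e).map ρ) (ω := ω)
    (by
      intro i
      fin_cases i
      · exact hs
      · exact hr)
    (by
      intro i
      fin_cases i
      · exact hys
      · exact hxr)
    (by
      intro i j
      fin_cases i <;> fin_cases j
      · rfl
      · exact hxy.symm
      · exact hxy
      · rfl)
    (fun u _ => by
      rcases hcov (u • ω) with h | h
      · exact ⟨0, h⟩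
      · exact ⟨1, h⟩)
    (by
      intro i u hu
      obtain ⟨t, ht, rfl⟩ := hu
      fin_cases i
      · exact ⟨_, cj_Pe E.form he0 Y hYe ht, (hY t).symm⟩
      · exact ⟨_, cj_Pe E.form he0 X hXe ht, (hX t).symm⟩)
    (Or.inl ⟨by
      rintro _ ⟨u, hu, rfl⟩ _ ⟨v, hv, rfl⟩
      rw [← map_mul, ← map_mul, Pe_ab E.form h2 hu hv], by
      intro i j hi hj
      fin_cases i <;> fin_cases j
      · rfl
      · exact absurd hco hi
      · exact absurd hco hj
      · rfl⟩)
  fin_cases i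
  · exact comm_le hi hgy
  · exact comm_le hi hgx

/-- **the end of the field automorphism case** -/
theorem field_end [Finite G] [Nonempty Ω] (E : SpEnv Ω N ρ) (h2 : (2 : F) = 0) {x : G} {Y : SS B} (hY : Lf ρ x Y)
    (hσ : Y.σ ≠ 1) {r : ℕ} (hr : r.Prime) (hxr : x ^ r = 1) {t : F} (ht0 : t ≠ 0) (ht : Y.l * Y.σ t = t)
    {e a b : V} (he0 : e ≠ 0) (he : Y e = e) (ha : Y a = a) (hb : Y b = b) (hae : B a e = 0) (hbe : B b e = 0)
    (hab : B a b = t) (hcov : ∀ ω : Ω, ρ (tv E.form a t⁻¹ * tv E.form b t⁻¹) • ω = ω ∨ x • ω = ω) : False := by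
  have hneg : ∀ c : F, -c = c := fun c => by
    rw [neg_eq_iff_add_eq_zero, ← two_mul, h2, zero_mul]
  have hba : B b a = t := by rw [E.form.swap b a, hneg, hab]
  have hσt : Y.σ t ≠ 0 := (map_ne_zero Y.σ).2 ht0
  have hl := Y.hl
  have htt : Y.l⁻¹ * (Y.σ t)⁻¹ = t⁻¹ := by rw [← mul_inv, ht]
  set y : Sp B := tv E.form a t⁻¹ * tv E.form b t⁻¹ with hy
  have hyv : ∀ v, y.1 v = v + (t⁻¹ * B v b) • b + (t⁻¹ * (B v a + B v b)) • a := by
    intro v
    change (tv E.form a t⁻¹).1 ((tv E.form b t⁻¹).1 v) = _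
    rw [tv_apply, tv_apply]
    simp only [map_add, map_smul, LinearMap.add_apply, LinearMap.smul_apply, smul_eq_mul, hba]
    congr 2
    field_simp
  have hye : y.1 e = e := by
    rw [hyv, E.form.swap0 hbe, E.form.swap0 hae]
    simp
  have hya : y.1 a = b := by
    rw [hyv, hab, E.form.alt, zero_add, inv_mul_cancel₀ ht0, one_smul, one_smul, add_assoc, add_comm b a, ← add_assoc,
      ← two_smul F a, h2, zero_smul, zero_add]
  have hyb : y.1 b = b + a := by
    rw [hyv, hba, E.form.alt, add_zero, inv_mul_cancel₀ ht0, one_smul, mul_zero, zero_smul, add_zero]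
  have hy3 : y ^ 3 = 1 := by
    refine sp_ext fun v => ?_
    change y.1 (y.1 (y.1 v)) = v
    obtain ⟨α, β, h3⟩ : ∃ α β : F, y.1 v = v + β • b + (α + β) • a :=
      ⟨t⁻¹ * B v a, t⁻¹ * B v b, by rw [hyv, mul_add]⟩
    rw [h3]
    simp only [map_add, map_smul, hya, hyb, smul_add, h3]
    have h4 : v = v + (2 * (α + 3 * β)) • b + (2 * (α + 2 * β)) • a := by
      rw [h2, zero_mul, zero_mul, zero_smul, zero_smul, add_zero, add_zero]
    nth_rewrite 2 [h4]
    module
  obtain ⟨s, hs⟩ : ∃ s, Y.σ s ≠ s := by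
    by_contra hno
    push Not at hno
    exact hσ (RingEquiv.ext hno)
  set μ : F := s + Y.σ s with hμ
  have hμ0 : μ ≠ 0 := by
    intro h0
    apply hs
    have h3 : Y.σ s = -s := by linear_combination h0
    rw [h3, hneg]
  have habe : B (a + b) e = 0 := pa hae hbe
  have hz : B ((μ * t⁻¹) • (a + b)) e = 0 := by rw [map_smul, LinearMap.smul_apply, habe, smul_zero]
  have hLy : Lf ρ (ρ y) (SS.tg y) := Lf.tg y
  have hye' : SS.tg y e = e := hye
  refine two_rule E h2 he0 hY hLy (μ := 1) (ν := 1) (by rw [one_smul, he]) (by rw [one_smul, hye']) hr Nat.prime_three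
    (by norm_num) hxr (by rw [← map_pow, hy3, map_one]) ?_ hcov (g := ρ (ph E.form hz (μ * μ * t⁻¹))) ?_ ?_ ?_
  · -- commute
    have h1 : SS.cj Y y = y := by
      rw [hy, map_mul, cj_tv, cj_tv, ha, hb, map_inv₀, mul_comm (Y.σ t)⁻¹, htt]
    have h3 := hY y
    rw [h1] at h3
    exact mul_inv_eq_iff_eq_mul.1 h3
  · -- nontrivial
    intro h1
    obtain ⟨k, hk⟩ := (E.ker _).1 h1
    have h3 := hk e
    rw [ph_apply, E.form.alt, E.form.swap0 hz, zero_smul, mul_zero, add_zero, add_zero, zero_smul, add_zero] at h3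
    have hk1 : k = 1 := by
      have h4 : (k - 1) • e = 0 := by rw [sub_smul, one_smul, ← h3, sub_self]
      exact sub_eq_zero.1 ((smul_eq_zero.1 h4).resolve_right he0)
    have h4 := hk a
    rw [hk1, one_smul, ph_apply, hae, zero_smul, mul_zero, add_zero, add_zero, add_eq_left, smul_eq_zero] at h4
    have h5 := h4.resolve_right he0
    rw [map_smul, map_add, E.form.alt, zero_add, hab, smul_eq_mul, inv_mul_cancel_right₀ ht0] at h5
    exact hμ0 h5
  · -- the field automorphism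
    have hw : B ((s * t⁻¹) • (a + b)) e = 0 := by rw [map_smul, LinearMap.smul_apply, habe, smul_zero]
    have h1 := mem_cmm (x := x) (U := (Pe E.form e).map ρ) ⟨_, ph_mem_Pe E.form hw (s * s * t⁻¹), rfl⟩
    rw [cm_ph E.form h2 hw _ hY he] at h1
    have h3 : Y.l⁻¹ • Y ((s * t⁻¹) • (a + b)) = (Y.σ s * t⁻¹) • (a + b) := by
      rw [Y.map_smul, Y.map_add, ha, hb, smul_smul, map_mul, map_inv₀, ← htt]
      congr 1
      ring
    have h4 : ph E.form (pa hw (lw he hw)) (s * s * t⁻¹ + Y.σ (s * s * t⁻¹) * Y.l⁻¹ +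
        B (Y.l⁻¹ • Y ((s * t⁻¹) • (a + b))) ((s * t⁻¹) • (a + b))) = ph E.form hz (μ * μ * t⁻¹) := by
      refine ph_congr E.form _ _ ?_ ?_
      · rw [h3, ← add_smul, hμ]
        congr 1
        ring
      · rw [h3, map_smul, map_smul, LinearMap.smul_apply, E.form.alt, smul_zero, smul_zero, add_zero, map_mul,
          map_mul, map_inv₀, mul_assoc _ (Y.σ t)⁻¹, mul_comm (Y.σ t)⁻¹, htt, hμ]
        linear_combination (-(s * Y.σ s * t⁻¹)) * h2
    rwa [h4] at h1
  · -- the element of order three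
    have hw : B ((μ * t⁻¹) • a) e = 0 := by rw [map_smul, LinearMap.smul_apply, hae, smul_zero]
    have h1 := mem_cmm (x := ρ y) (U := (Pe E.form e).map ρ) ⟨_, ph_mem_Pe E.form hw 0, rfl⟩
    rw [cm_ph E.form h2 hw _ hLy hye'] at h1
    have h3 : (SS.tg y).l⁻¹ • SS.tg y ((μ * t⁻¹) • a) = (μ * t⁻¹) • b := by
      change (1 : F)⁻¹ • y.1 ((μ * t⁻¹) • a) = _
      rw [inv_one, one_smul, map_smul, hya]
    have h4 : ph E.form (pa hw (lw hye' hw)) (0 + (SS.tg y).σ 0 * (SS.tg y).l⁻¹ +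
        B ((SS.tg y).l⁻¹ • SS.tg y ((μ * t⁻¹) • a)) ((μ * t⁻¹) • a)) = ph E.form hz (μ * μ * t⁻¹) := by
      refine ph_congr E.form _ _ ?_ ?_
      · rw [h3, smul_add]
      · rw [h3, map_zero, zero_mul, zero_add, zero_add, map_smul, map_smul, LinearMap.smul_apply, hba, smul_eq_mul,
          smul_eq_mul]
        field_simp
    rwa [h4] at h1

end rule

end Cfsg.Agent.H327.RC
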