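import Cfsg.Agent.H520.RC.SpDefs
import Cfsg.Agent.H106.RC.Descent

/-!
# S3510, row D: semisimilitudes fixing a basis; the symplectic group over the fixed field (helper327)

`Y : SS B` with `Y (b i) = b i` for a basis `b`.
* `Fx Y.σ` : the fixed field; `V0 Y` : the fixed vectors; `b0` : the basis of `V0 Y`;
* `B0` : the form on `V0 Y`; `NAlt`;
* `ext : Sp (B0 ..) →* Sp B` injective, `(ext m).1 v = m.1 v` on `V0 Y`;
* `ext_fix`, `exists_ext` : the range of `ext` is `{t | cj Y t = t}`;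
* `ext_tv` : transvections.
-/

set_option autoImplicit false

namespace Cfsg.Agent.H327.RC

open Module Cfsg.Agent.H520.RC

universe u v

variable {F : Type u} {V : Type v} [Field F] [AddCommGroup V] [Module F V] {B : LinearMap.BilinForm F V}

/-- the fixed field -/
abbrev Fx (σ : F ≃+* F) : Subfield F := FixedPoints.subfield (Subgroup.zpowers σ) F

theorem mem_Fx {σ : F ≃+* F} {a : F} : a ∈ Fx σ ↔ σ a = a := by
  constructor
  · intro h
    exact h ⟨σ, Subgroup.mem_zpowers σ⟩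
  · rintro h ⟨g, hg⟩
    obtain ⟨k, rfl⟩ := Subgroup.mem_zpowers_iff.1 hg
    show (σ ^ k) a = a
    have hst : σ ∈ MulAction.stabilizer (F ≃+* F) a := h
    exact (MulAction.stabilizer (F ≃+* F) a).zpow_mem hst k

/-- the fixed vectors -/
def V0 (Y : SS B) : Submodule (Fx Y.σ) V where
  carrier := {v | Y v = v}
  add_mem' := by
    intro u v hu hv
    show Y (u + v) = u + v
    rw [Y.map_add, show Y u = u from hu, show Y v = v from hv]
  zero_mem' := Y.map_zero
  smul_mem' := by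
    rintro ⟨a, ha⟩ v hv
    show Y (a • v) = a • v
    rw [Y.map_smul, mem_Fx.1 ha, show Y v = v from hv]

theorem mem_V0 {Y : SS B} {v : V} : v ∈ V0 Y ↔ Y v = v := Iff.rfl

theorem V0_fix {Y : SS B} (v : V0 Y) : Y (v : V) = v := v.2

section

variable {Y : SS B} {n : ℕ} {b : Basis (Fin n) F V} (hb : ∀ i, Y (b i) = b i)

include hb

theorem Y_sum (c : Fin n → F) : Y (∑ i, c i • b i) = ∑ i, Y.σ (c i) • b i := by
  rw [_root_.map_sum Y.f]
  refine Finset.sum_congr rfl fun i _ => ?_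
  rw [Y.map_smul, hb]

theorem repr_Y (v : V) (i : Fin n) : b.repr (Y v) i = Y.σ (b.repr v i) := by
  conv_lhs => rw [← b.sum_repr v, Y_sum hb]
  rw [b.repr_sum_self]

theorem mem_V0_iff {v : V} : v ∈ V0 Y ↔ ∀ i, b.repr v i ∈ Fx Y.σ := by
  constructor
  · intro h i
    rw [mem_Fx, ← repr_Y hb, mem_V0.1 h]
  · intro h
    rw [mem_V0]
    apply b.repr.injective
    ext i
    rw [repr_Y hb]
    exact mem_Fx.1 (h i)

/-- the basis of the fixed vectors -/
noncomputable def b0 : Basis (Fin n) (Fx Y.σ) (V0 Y) := Basis.ofEquivFun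
  { toFun := fun v i => ⟨b.repr (v : V) i, (mem_V0_iff hb).1 v.2 i⟩
    invFun := fun c => ⟨∑ i, (c i : F) • b i, by
      rw [mem_V0, Y_sum hb]
      exact Finset.sum_congr rfl fun i _ => by rw [mem_Fx.1 (c i).2]⟩
    left_inv := fun v => Subtype.ext (b.sum_repr (v : V))
    right_inv := fun c => by
      funext i
      apply Subtype.ext
      change b.repr (∑ i, (c i : F) • b i) i = c i
      rw [b.repr_sum_self]
    map_add' := fun u v => by
      funext i
      apply Subtype.ext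
      change b.repr ((u : V) + v) i = b.repr (u : V) i + b.repr (v : V) i
      rw [map_add]
      rfl
    map_smul' := fun a v => by
      funext i
      apply Subtype.ext
      change b.repr ((a : F) • (v : V)) i = (a : F) * b.repr (v : V) i
      rw [map_smul]
      rfl }

theorem b0_apply (i : Fin n) : ((b0 hb i : V0 Y) : V) = b i := by
  classical
  rw [b0, Basis.coe_ofEquivFun]
  change ∑ j, (((Pi.single i (1 : Fx Y.σ) : Fin n → Fx Y.σ) j : Fx Y.σ) : F) • b j = b i
  rw [Finset.sum_eq_single i]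
  · rw [Pi.single_eq_same]
    exact one_smul F (b i)
  · intro j _ hj
    rw [Pi.single_eq_of_ne hj]
    exact zero_smul F (b j)
  · intro h
    exact absurd (Finset.mem_univ i) h

theorem coe_sum_repr (v : V0 Y) : (v : V) = ∑ i, (((b0 hb).repr v i : Fx Y.σ) : F) • b i := by
  conv_lhs => rw [← (b0 hb).sum_repr v]
  rw [Submodule.coe_sum]
  refine Finset.sum_congr rfl fun i _ => ?_
  rw [Submodule.coe_smul, b0_apply]
  rfl

/-- extension of linear maps -/
noncomputable def extL (m : V0 Y →ₗ[Fx Y.σ] V0 Y) : V →ₗ[F] V := b.constr F (fun i => ((m (b0 hb i) : V0 Y) : V))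

theorem extL_basis (m : V0 Y →ₗ[Fx Y.σ] V0 Y) (i : Fin n) : extL hb m (b i) = m (b0 hb i) := by
  rw [extL, Basis.constr_basis]

theorem extL_apply (m : V0 Y →ₗ[Fx Y.σ] V0 Y) (v : V0 Y) : extL hb m (v : V) = m v := by
  rw [coe_sum_repr hb v, map_sum]
  conv_rhs => rw [← (b0 hb).sum_repr v, map_sum]
  rw [Submodule.coe_sum]
  refine Finset.sum_congr rfl fun i _ => ?_
  rw [map_smul, extL_basis, map_smul, Submodule.coe_smul]
  rfl

theorem extL_comp (m m' : V0 Y →ₗ[Fx Y.σ] V0 Y) : extL hb (m ∘ₗ m') = extL hb m ∘ₗ extL hb m' := by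
  refine b.ext fun i => ?_
  rw [extL_basis, LinearMap.comp_apply, LinearMap.comp_apply, extL_basis, extL_apply]

theorem extL_id : extL hb LinearMap.id = LinearMap.id := by
  refine b.ext fun i => ?_
  rw [extL_basis, LinearMap.id_apply, LinearMap.id_apply, b0_apply]

/-- two linear maps agreeing on the fixed vectors are equal -/
theorem eq_of_V0 {W : Type*} [AddCommGroup W] [Module F W] {f g : V →ₗ[F] W} (h : ∀ v : V0 Y, f (v : V) = g v) : f = g := by
  refine b.ext fun i => ?_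
  rw [← b0_apply hb i]
  exact h _

/-- extension of linear automorphisms -/
noncomputable def extE : (V0 Y ≃ₗ[Fx Y.σ] V0 Y) →* (V ≃ₗ[F] V) where
  toFun m := LinearEquiv.ofLinearMap (extL hb m) (extL hb m.symm)
    (by rw [← extL_comp, LinearEquiv.comp_symm, extL_id]) (by rw [← extL_comp, LinearEquiv.symm_comp, extL_id])
  map_one' := by
    ext v
    change extL hb LinearMap.id v = v
    rw [extL_id]
    rfl
  map_mul' m m' := by
    ext v
    change extL hb (m.toLinearMap ∘ₗ m'.toLinearMap) v = extL hb m (extL hb m' v)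
    rw [extL_comp]
    rfl

theorem extE_apply (m : V0 Y ≃ₗ[Fx Y.σ] V0 Y) (v : V0 Y) : extE hb m (v : V) = m v := extL_apply hb _ v

theorem extE_Y (m : V0 Y ≃ₗ[Fx Y.σ] V0 Y) (v : V) : extE hb m (Y v) = Y (extE hb m v) := by
  have h1 : ∀ i, extE hb m (b i) = ((m (b0 hb i) : V0 Y) : V) := fun i => by
    rw [← b0_apply hb i]
    exact extE_apply hb m _
  rw [← b.sum_repr v, Y_sum hb, map_sum, map_sum, _root_.map_sum Y.f]
  refine Finset.sum_congr rfl fun i _ => ?_
  rw [map_smul, map_smul, Y.map_smul, h1, V0_fix]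

end

/-! ### the form -/

section form

variable {Y : SS B} {t : F} (ht0 : t ≠ 0) (ht : Y.l * Y.σ t = t)

include ht0 ht

theorem B_mem {u v : V} (hu : u ∈ V0 Y) (hv : v ∈ V0 Y) : t⁻¹ * B u v ∈ Fx Y.σ := by
  rw [mem_Fx, map_mul, map_inv₀]
  have h1 := Y.form u v
  rw [mem_V0.1 hu, mem_V0.1 hv] at h1
  have h2 : Y.σ t ≠ 0 := (map_ne_zero Y.σ).2 ht0
  rw [inv_mul_eq_iff_eq_mul₀ h2]
  calc Y.σ (B u v) = (Y.l * Y.σ t) * t⁻¹ * Y.σ (B u v) := by rw [ht, mul_inv_cancel₀ ht0, one_mul]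
    _ = Y.σ t * (t⁻¹ * (Y.l * Y.σ (B u v))) := by ring
    _ = Y.σ t * (t⁻¹ * B u v) := by rw [← h1]

/-- the form on the fixed vectors -/
def B0 : LinearMap.BilinForm (Fx Y.σ) (V0 Y) :=
  LinearMap.mk₂ (Fx Y.σ) (fun u v => (⟨t⁻¹ * B (u : V) v, B_mem ht0 ht u.2 v.2⟩ : Fx Y.σ))
    (fun u u' v => Subtype.ext (by
      change t⁻¹ * B ((u : V) + u') v = t⁻¹ * B (u : V) v + t⁻¹ * B (u' : V) v
      rw [map_add, LinearMap.add_apply, mul_add]))
    (fun a u v => Subtype.ext (by
      change t⁻¹ * B ((a : F) • (u : V)) v = (a : F) * (t⁻¹ * B (u : V) v)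
      rw [map_smul, LinearMap.smul_apply, smul_eq_mul]
      ring))
    (fun u v v' => Subtype.ext (by
      change t⁻¹ * B (u : V) ((v : V) + v') = t⁻¹ * B (u : V) v + t⁻¹ * B (u : V) v'
      rw [map_add, mul_add]))
    (fun a u v => Subtype.ext (by
      change t⁻¹ * B (u : V) ((a : F) • (v : V)) = (a : F) * (t⁻¹ * B (u : V) v)
      rw [map_smul, smul_eq_mul]
      ring))

theorem B0_apply (u v : V0 Y) : ((B0 ht0 ht u v : Fx Y.σ) : F) = t⁻¹ * B (u : V) v := rfl

theorem B_eq (u v : V0 Y) : B (u : V) v = t * ((B0 ht0 ht u v : Fx Y.σ) : F) := by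
  rw [B0_apply, mul_inv_cancel_left₀ ht0]

variable {n : ℕ} {b : Basis (Fin n) F V} (hb : ∀ i, Y (b i) = b i)

include hb

theorem nalt_B0 (h : NAlt B) : NAlt (B0 ht0 ht) where
  alt x := by
    apply Subtype.ext
    rw [B0_apply, h.alt, mul_zero]
    rfl
  nd x hx := by
    apply Subtype.ext
    apply h.nd
    have h1 : B (x : V) = 0 := by
      refine eq_of_V0 hb fun v => ?_
      rw [B_eq ht0 ht, hx v]
      change t * 0 = 0
      rw [mul_zero]
    intro y
    rw [h1]
    rfl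

theorem ext_isom (m : Sp (B0 ht0 ht)) : extE hb m.1 ∈ Sp B := by
  intro u v
  have h1 : (B.compl₁₂ (extE hb m.1 : V →ₗ[F] V) (extE hb m.1 : V →ₗ[F] V)) = B := by
    refine eq_of_V0 hb fun u => eq_of_V0 hb fun v => ?_
    change B (extE hb m.1 (u : V)) (extE hb m.1 (v : V)) = B (u : V) v
    rw [extE_apply, extE_apply, B_eq ht0 ht, B_eq ht0 ht, m.2 u v]
  exact congrArg (fun C : LinearMap.BilinForm F V => C u v) h1

/-- the symplectic group of the fixed vectors -/
noncomputable def ext : Sp (B0 ht0 ht) →* Sp B :=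
  ((extE hb).comp (Sp (B0 ht0 ht)).subtype).codRestrict (Sp B) (fun m => ext_isom ht0 ht hb m)

theorem ext_apply (m : Sp (B0 ht0 ht)) (v : V0 Y) : (ext ht0 ht hb m).1 (v : V) = m.1 v := extE_apply hb m.1 v

theorem ext_fix (m : Sp (B0 ht0 ht)) : SS.cj Y (ext ht0 ht hb m) = ext ht0 ht hb m :=
  SS.cj_eq fun v => extE_Y hb m.1 v

theorem ext_injective : Function.Injective (ext ht0 ht hb) := by
  intro m m' h
  apply Subtype.ext
  ext v
  rw [← ext_apply ht0 ht hb, ← ext_apply ht0 ht hb, h]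

theorem exists_ext {s : Sp B} (hs : SS.cj Y s = s) : ∃ m, ext ht0 ht hb m = s := by
  have h1 : ∀ v, s.1 (Y v) = Y (s.1 v) := fun v => by
    rw [← SS.cj_apply, hs]
  have h1' : ∀ v, s.1.symm (Y v) = Y (s.1.symm v) := fun v => by
    apply s.1.injective
    rw [h1, LinearEquiv.apply_symm_apply, LinearEquiv.apply_symm_apply]
  let m : V0 Y ≃ₗ[Fx Y.σ] V0 Y :=
    { toFun := fun v => ⟨s.1 (v : V), by rw [mem_V0, ← h1, V0_fix]⟩
      invFun := fun v => ⟨s.1.symm (v : V), by rw [mem_V0, ← h1', V0_fix]⟩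
      left_inv := fun v => Subtype.ext (s.1.symm_apply_apply _)
      right_inv := fun v => Subtype.ext (s.1.apply_symm_apply _)
      map_add' := fun u v => Subtype.ext (s.1.map_add _ _)
      map_smul' := fun a v => Subtype.ext (s.1.map_smul (a : F) _) }
  refine ⟨⟨m, fun u v => Subtype.ext ?_⟩, ?_⟩
  · rw [B0_apply, B0_apply]
    change t⁻¹ * B (s.1 (u : V)) (s.1 (v : V)) = _
    rw [s.2]
  · apply Subtype.ext
    apply LinearEquiv.toLinearMap_injective
    refine eq_of_V0 hb fun v => ?_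
    exact ext_apply ht0 ht hb _ v

theorem ext_tv (h : NAlt B) (e : V0 Y) (c : Fx Y.σ) :
    ext ht0 ht hb (tv (nalt_B0 ht0 ht hb h) e c) = tv h (e : V) (c * t⁻¹) := by
  apply Subtype.ext
  apply LinearEquiv.toLinearMap_injective
  refine eq_of_V0 hb fun v => ?_
  change (ext ht0 ht hb (tv (nalt_B0 ht0 ht hb h) e c)).1 (v : V) = (tv h (e : V) (c * t⁻¹)).1 (v : V)
  rw [ext_apply, tv_apply, tv_apply, mul_assoc, ← B0_apply ht0 ht]
  rfl

end form

end Cfsg.Agent.H327.RC
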