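import Cfsg.Agent.H520.RC.SpId
import Cfsg.Agent.H206.PspFix

/-!
# S3510, row D, `Sp_4(q)`, `q` even: lifts (helper327)

`ρ : Sp B →* G`, range `N`, kernel the scalars.
* `exists_lf` : `x` sends some transvection to a transvection, characteristic two ==> `x` has a lift in `SS B`.
-/

set_option autoImplicit false
open Cfsg

namespace Cfsg.Agent.H327.RC

open Module MulAction Cfsg.Agent.H520.RC
open Cfsg.Agent.ClassicalGeometry.SympAutSemi Cfsg.Agent.ClassicalGeometry.SympBasic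
  Cfsg.Agent.ClassicalGeometry.SympAutExists

variable {F : Type*} {V : Type*} [Field F] [AddCommGroup V] [Module F V]
  {B : LinearMap.BilinForm F V} {G : Type*} [Group G] {N : Subgroup G} {ρ : ↥(Sp B) →* G}

/-- the semisimilitude of `B` given by a semisimilitude of the standard form -/
def ssOf {m : ℕ} (e : (Fin m ⊕ Fin m → F) ≃ₗ[F] V) (he : ∀ x y, B (e x) (e y) = sympForm m F x y)
    (g : Equiv.Perm (Fin m ⊕ Fin m → F)) {φ : F ≃+* F} {l : F} (hl : l ≠ 0) (hg : IsSemi g φ l) : SS B where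
  f := { toFun := fun v => e (g (e.symm v))
         invFun := fun v => e (g.symm (e.symm v))
         left_inv := fun v => by simp
         right_inv := fun v => by simp
         map_add' := fun u v => by rw [map_add, hg.1, map_add] }
  σ := φ
  l := l
  hl := hl
  smul' a v := by
    show e (g (e.symm (a • v))) = φ a • e (g (e.symm v))
    rw [map_smul, hg.2.1, map_smul]
  form' u v := by
    show B (e (g (e.symm u))) (e (g (e.symm v))) = l * φ (B u v)
    rw [he, hg.2.2, ← he, e.apply_symm_apply, e.apply_symm_apply]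

theorem ssOf_apply {m : ℕ} (e : (Fin m ⊕ Fin m → F) ≃ₗ[F] V) (he : ∀ x y, B (e x) (e y) = sympForm m F x y)
    (g : Equiv.Perm (Fin m ⊕ Fin m → F)) {φ : F ≃+* F} {l : F} (hl : l ≠ 0) (hg : IsSemi g φ l)
    (v : Fin m ⊕ Fin m → F) : ssOf e he g hl hg (e v) = e (g v) := by
  show e (g (e.symm (e v))) = _
  rw [e.symm_apply_apply]

/-- an element inducing a semisimilitude on `PSp` has a lift -/
theorem lf_of_semi {m : ℕ} (e : (Fin m ⊕ Fin m → F) ≃ₗ[F] V) (he : ∀ x y, B (e x) (e y) = sympForm m F x y)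
    {x : G} (y : MulAut (PSp m F))
    (hy : ∀ A A' : Matrix.symplecticGroup (Fin m) F, y (pr A) = pr A' →
      x * ρ (spHom e he A) * x⁻¹ = ρ (spHom e he A')) (g : semiSim m F) (hg : Psi m F g = y) :
    ∃ M : SS B, Lf ρ x M := by
  obtain ⟨τ, l, hl, hs⟩ := g.2
  refine ⟨ssOf e he g.1 hl hs, fun t => ?_⟩
  obtain ⟨A, rfl⟩ := (spHom_bijective e he).2 t
  rw [hy A (conjHom m F g A) (by rw [← hg]; rfl)]
  congr 1
  symm
  refine SS.cj_eq fun v => ?_
  obtain ⟨v, rfl⟩ := e.surjective v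
  rw [ssOf_apply, spHom_apply, spHom_apply, e.symm_apply_apply, e.symm_apply_apply, ssOf_apply, rho_conjHom]
  rw [Equiv.Perm.mul_apply, Equiv.Perm.mul_apply, perm_inv_apply_self]

/-- the automorphism of `PSp` induced by an element normalising `N` -/
theorem exists_ind_psp [hN : N.Normal] {m : ℕ} (e : (Fin m ⊕ Fin m → F) ≃ₗ[F] V)
    (he : ∀ x y, B (e x) (e y) = sympForm m F x y) (hr : ρ.range = N)
    (hk : ∀ t : ↥(Sp B), ρ t = 1 ↔ t ∈ Subgroup.center (Sp B)) (x : G) :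
    ∃ y : MulAut (PSp m F), ∀ A A' : Matrix.symplecticGroup (Fin m) F, y (pr A) = pr A' ↔
      x * ρ (spHom e he A) * x⁻¹ = ρ (spHom e he A') := by
  let S : Matrix.symplecticGroup (Fin m) F ≃* Sp B := MulEquiv.ofBijective (spHom e he) (spHom_bijective e he)
  let Φ0 : Matrix.symplecticGroup (Fin m) F →* N :=
    (ρ.codRestrict N (fun t => by rw [← hr]; exact ⟨t, rfl⟩)).comp (spHom e he)
  have hΦ0 : ∀ A, ((Φ0 A : N) : G) = ρ (spHom e he A) := fun A => rfl
  have hsurj : Function.Surjective Φ0 := by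
    rintro ⟨n, hn⟩
    rw [← hr] at hn
    obtain ⟨t, rfl⟩ := hn
    obtain ⟨A, rfl⟩ := (spHom_bijective e he).2 t
    exact ⟨A, rfl⟩
  have hker : Φ0.ker = Subgroup.center (Matrix.symplecticGroup (Fin m) F) := by
    ext A
    rw [MonoidHom.mem_ker]
    have h1 : Φ0 A = 1 ↔ ρ (spHom e he A) = 1 := by
      rw [← hΦ0]
      exact ⟨fun h => by rw [h]; rfl, fun h => Subtype.ext h⟩
    rw [h1, hk, Subgroup.mem_center_iff, Subgroup.mem_center_iff]
    constructor
    · intro h2 C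
      apply (spHom_bijective e he).1
      rw [map_mul, map_mul, h2]
    · intro h2 t
      obtain ⟨C, rfl⟩ := (spHom_bijective e he).2 t
      rw [← map_mul, ← map_mul, h2]
  let Φ : PSp m F ≃* N := (QuotientGroup.quotientMulEquivOfEq hker.symm).trans
    (QuotientGroup.quotientKerEquivOfSurjective Φ0 hsurj)
  have hΦ : ∀ A, Φ (pr A) = Φ0 A := fun A => rfl
  refine ⟨(Φ.trans (MulAut.conjNormal x)).trans Φ.symm, fun A A' => ?_⟩
  have h1 : ((Φ.trans (MulAut.conjNormal x)).trans Φ.symm) (pr A) = Φ.symm (MulAut.conjNormal x (Φ (pr A))) := rfl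
  rw [h1, MulEquiv.symm_apply_eq, hΦ, hΦ, ← hΦ0, ← hΦ0, ← MulAut.conjNormal_apply]
  exact ⟨fun h => by rw [h], fun h => Subtype.ext h⟩

theorem exists_lf [Finite F] [FiniteDimensional F V] [hN : N.Normal] (hB : NAlt B) (h2 : (2 : F) = 0) (hd : 4 ≤ finrank F V) (hr : ρ.range = N)
    (hk : ∀ t : ↥(Sp B), ρ t = 1 ↔ ∃ a : F, ∀ v, t.1 v = a • v) {x : G} {e e' : V} {c c' : F} (he : e ≠ 0)
    (he' : e' ≠ 0) (hc : c ≠ 0) (hc' : c' ≠ 0)
    (hx : x * ρ (tv hB e c) * x⁻¹ = ρ (tv hB e' c')) : ∃ M : SS B, Lf ρ x M := by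
  obtain ⟨m, hm⟩ := exists_dim hB
  obtain ⟨E, hE⟩ := Cfsg.Agent.ClassicalGeometry.SympIso.exists_linearEquiv_sympForm B hB.alt hB.nd hm
  have hm2 : 2 ≤ m := by omega
  have hk' : ∀ t : ↥(Sp B), ρ t = 1 ↔ t ∈ Subgroup.center (Sp B) := fun t => by
    rw [mem_center_Sp hB, hk]
  obtain ⟨y, hy⟩ := exists_ind_psp E hE hr hk' x
  obtain ⟨v, rfl⟩ := E.surjective e
  obtain ⟨v', rfl⟩ := E.surjective e'
  have hv : v ≠ 0 := fun h => he (by rw [h, map_zero])
  have hv' : v' ≠ 0 := fun h => he' (by rw [h, map_zero])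
  have h1 : y (pr (transv v c)) = pr (transv v' c') := by
    rw [hy, spHom_transv E hE hB, spHom_transv E hE hB]
    exact hx
  have hP : Pres y := by
    intro w hw d hd'
    obtain ⟨g, hg⟩ := Cfsg.Agent.ClassicalGeometry.SympAutTwo.transv_conj h2 hv hw hc hd'
    obtain ⟨w', hw', e1⟩ := Cfsg.Agent.ClassicalGeometry.AutPSpCount.exists_conj_mk_transv (y (pr g)) hv' c'
    refine ⟨w', hw', c', hc', ?_⟩
    change _ = (QuotientGroup.mk (transv w' c') : PSp m F)
    rw [← e1, ← hg, pr_mul, pr_mul, pr_inv, map_mul, map_mul, map_inv, h1]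
    rfl
  obtain ⟨g, hg⟩ := exists_semi hm2 y hP
  exact lf_of_semi E hE y (fun A A' h => (hy A A').1 h) g hg

end Cfsg.Agent.H327.RC
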