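import Cfsg.Agent.H327.RC.SemiTwo
import Cfsg.Agent.H327.RC.Lift

/-!
# S3510, row D: members without lift (graph automorphisms of `Sp_4(q)`, `q` even) (helper327)

* `GEnv` : `SpEnv` without the hypothesis that all elements have lifts;
* `Lp ρ` : the subgroup of the elements which have lifts; `rp ρ`; `GEnv.sp` : `SpEnv` for `Lp ρ`;
* `mrule_f` : M-rule for a homomorphism `f : X →* G` whose kernel is central;
* `norm_fix` : every element commuting with a field automorphism normalises `ρ (ext Sp (V0))`;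
* `gr_field` : no member is a field automorphism with `|F_0| > 2` (or dimension at least six).
-/

set_option autoImplicit false

namespace Cfsg.Agent.H327.RC

open Module MulAction Cfsg.Agent.H520.RC Cfsg.Agent.H106.RC Cfsg.Agent.H380.RC

section defs

variable {F : Type*} {V : Type*} [Field F] [AddCommGroup V] [Module F V] {B : LinearMap.BilinForm F V}
  {G : Type*} [Group G]

/-- environment without lifts -/
structure GEnv (Ω : Type*) [MulAction G Ω] (N : Subgroup G) (ρ : ↥(Sp B) →* G) : Prop where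
  env : Env G Ω N
  form : NAlt B
  range : ρ.range = N
  ker : ∀ t : ↥(Sp B), ρ t = 1 ↔ ∃ a : F, ∀ v, t.1 v = a • v
  dim : 4 ≤ finrank F V

/-- the elements which have a lift -/
def Lp (ρ : ↥(Sp B) →* G) : Subgroup G where
  carrier := {x | ∃ M : SS B, Lf ρ x M}
  one_mem' := ⟨1, Lf.one⟩
  mul_mem' := by
    rintro x y ⟨M, hM⟩ ⟨L, hL⟩
    exact ⟨M * L, hM.mul hL⟩
  inv_mem' := by
    rintro x ⟨M, hM⟩
    exact ⟨M⁻¹, hM.inv⟩

variable {ρ : ↥(Sp B) →* G}

theorem mem_Lp {x : G} : x ∈ Lp ρ ↔ ∃ M : SS B, Lf ρ x M := Iff.rfl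

theorem rho_mem_Lp (t : ↥(Sp B)) : ρ t ∈ Lp ρ := ⟨_, Lf.tg t⟩

/-- `ρ` with values in the elements with lifts -/
def rp (ρ : ↥(Sp B) →* G) : ↥(Sp B) →* Lp ρ := ρ.codRestrict (Lp ρ) rho_mem_Lp

theorem rp_coe (t : ↥(Sp B)) : ((rp ρ t : Lp ρ) : G) = ρ t := rfl

theorem lf_rp {x : Lp ρ} {M : SS B} : Lf (rp ρ) x M ↔ Lf ρ (x : G) M := by
  constructor
  · intro h t
    have h1 := congrArg (fun z : Lp ρ => (z : G)) (h t)
    exact h1
  · intro h t
    exact Subtype.ext (h t)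

variable {Ω : Type*} [MulAction G Ω] {N : Subgroup G}

theorem GEnv.of_sp (E : SpEnv Ω N ρ) : GEnv Ω N ρ := ⟨E.env, E.form, E.range, E.ker, E.dim⟩

theorem GEnv.le (E : GEnv Ω N ρ) : N ≤ Lp ρ := by
  intro n hn
  rw [← E.range] at hn
  obtain ⟨t, rfl⟩ := hn
  exact rho_mem_Lp t

theorem GEnv.sp (E : GEnv Ω N ρ) : SpEnv Ω (N.subgroupOf (Lp ρ)) (rp ρ) where
  env := by
    have hN := E.env.norm
    have e := Subgroup.subgroupOfEquivOfLe E.le
    refine ⟨inferInstance, isSimple_cgr0 e.symm E.env.simple, fun h => E.env.ncomm ⟨⟨fun a b => ?_⟩⟩, ?_, fun ω h => ?_⟩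
    · apply e.symm.injective
      rw [map_mul, map_mul]
      exact h.is_comm.comm _ _
    · rw [eq_bot_iff]
      intro x hx
      have h1 : (x : G) ∈ Subgroup.centralizer (N : Set G) := by
        rw [Subgroup.mem_centralizer_iff]
        intro n hn
        have h2 := Subgroup.mem_centralizer_iff.1 hx ⟨n, E.le hn⟩ (by exact hn)
        exact congrArg Subtype.val h2
      rw [E.env.cent] at h1
      exact Subgroup.mem_bot.2 (Subtype.ext (Subgroup.mem_bot.1 h1))
    · apply E.env.nofix ω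
      intro n hn
      have h2 : (⟨n, E.le hn⟩ : Lp ρ) ∈ stabilizer (Lp ρ) ω := h (by exact hn)
      exact h2
  form := E.form
  range := by
    ext x
    rw [Subgroup.mem_subgroupOf, ← E.range]
    constructor
    · rintro ⟨t, rfl⟩
      exact ⟨t, rfl⟩
    · rintro ⟨t, ht⟩
      exact ⟨t, Subtype.ext ht⟩
  ker := fun t => by
    rw [← E.ker]
    exact ⟨fun h => congrArg Subtype.val h, fun h => Subtype.ext h⟩
  lift := fun x => by
    obtain ⟨M, hM⟩ := x.2
    exact ⟨M, lf_rp.2 hM⟩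
  dim := E.dim

/-- in characteristic two `ρ` is injective -/
theorem GEnv.inj [FiniteDimensional F V] (E : GEnv Ω N ρ) (h2 : (2 : F) = 0) : Function.Injective ρ := by
  rw [injective_iff_map_eq_one]
  intro t ht
  obtain ⟨a, ha⟩ := (E.ker t).1 ht
  have hV : Nontrivial V := Module.nontrivial_of_finrank_pos (R := F) (by have := E.dim; omega)
  obtain ⟨v, hv⟩ := _root_.exists_ne (0 : V)
  obtain ⟨w, hw⟩ := E.form.exists_one hv
  have h1 := t.2 v w
  rw [ha, ha, map_smul, map_smul, LinearMap.smul_apply, hw, smul_eq_mul, smul_eq_mul, mul_one] at h1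
  have h3 : a = 1 := by
    have h3 : (a - 1) * (a - 1) = 0 := by linear_combination h1 + (1 - a) * h2
    exact sub_eq_zero.1 (mul_self_eq_zero.1 h3)
  refine sp_ext fun v => ?_
  rw [ha, h3, one_smul]
  rfl

end defs

section mrule

/-- `x` of finite order with `x K x⁻¹ ≤ K` normalises `K` -/
theorem mem_norm_of_pow {G : Type*} [Group G] {K : Subgroup G} {x : G} {n : ℕ} (hn : 0 < n) (hx : x ^ n = 1)
    (h : ∀ m ∈ K, x * m * x⁻¹ ∈ K) : x ∈ Subgroup.normalizer (K : Set G) := by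
  rw [Subgroup.mem_normalizer_iff]
  intro m
  refine ⟨fun hm => h m hm, fun hm => ?_⟩
  have h4 : ∀ k : ℕ, x ^ k * (x * m * x⁻¹) * (x ^ k)⁻¹ ∈ K := by
    intro k
    induction k with
    | zero => simpa using hm
    | succ k ih =>
      have h5 := h _ ih
      have h6 : x * (x ^ k * (x * m * x⁻¹) * (x ^ k)⁻¹) * x⁻¹ = x ^ (k + 1) * (x * m * x⁻¹) * (x ^ (k + 1))⁻¹ := by
        rw [pow_succ']
        group
      rwa [h6] at h5
  obtain ⟨k, rfl⟩ : ∃ k, n = k + 1 := ⟨n - 1, by omega⟩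
  have h4 := h4 k
  have h5 : x ^ k = x⁻¹ := by
    rw [eq_inv_iff_mul_eq_one, ← pow_succ]
    exact hx
  rw [h5] at h4
  have h6 : x⁻¹ * (x * m * x⁻¹) * (x⁻¹)⁻¹ = m := by group
  rwa [h6] at h4

/-- the data of the M-rule for a homomorphism with central kernel -/
theorem exists_proj {G X : Type*} [Group G] [Group X] (f : X →* G) (hker : ∀ s, f s = 1 → s ∈ Subgroup.center X) :
    ∃ π : f.range →* X ⧸ Subgroup.center X, (∀ s, π ⟨f s, s, rfl⟩ = QuotientGroup.mk s) ∧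
      Function.Surjective π ∧ π.ker ≤ Subgroup.center f.range := by
  have hlift : ∀ m : f.range, ∃ s, f s = m := fun m => m.2
  let π : f.range →* X ⧸ Subgroup.center X :=
    { toFun := fun m => QuotientGroup.mk (hlift m).choose
      map_one' := by
        rw [QuotientGroup.eq_one_iff]
        exact hker _ (hlift 1).choose_spec
      map_mul' := fun m n => by
        rw [← QuotientGroup.mk_mul, QuotientGroup.eq]
        apply hker
        rw [map_mul, map_inv, map_mul, (hlift _).choose_spec, (hlift _).choose_spec, (hlift _).choose_spec]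
        rw [Subgroup.coe_mul]
        group }
  have hπ : ∀ s, π ⟨f s, s, rfl⟩ = QuotientGroup.mk s := by
    intro s
    show QuotientGroup.mk (hlift ⟨f s, s, rfl⟩).choose = _
    rw [QuotientGroup.eq]
    apply hker
    rw [map_mul, map_inv, (hlift _).choose_spec, inv_mul_cancel]
  refine ⟨π, hπ, fun y => ?_, ?_⟩
  · obtain ⟨s, rfl⟩ := QuotientGroup.mk_surjective y
    exact ⟨_, hπ s⟩
  · rintro ⟨_, s, rfl⟩ hs
    rw [MonoidHom.mem_ker] at hs
    rw [hπ, QuotientGroup.eq_one_iff] at hs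
    rw [Subgroup.mem_center_iff]
    rintro ⟨_, t, rfl⟩
    apply Subtype.ext
    show f t * f s = f s * f t
    rw [← map_mul, ← map_mul, Subgroup.mem_center_iff.1 hs]

theorem range_perf {G X : Type*} [Group G] [Group X] (f : X →* G) (hperf : commutator X = ⊤) :
    ⁅f.range, f.range⁆ = f.range := by
  have h3 := Subgroup.map_commutator (⊤ : Subgroup X) ⊤ f
  rw [← commutator_def, hperf, ← MonoidHom.range_eq_map] at h3
  exact h3.symm

/-- the M-rule for a homomorphism `f : X →* G` with central kernel -/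
theorem mrule_f {G : Type} [Group G] [Finite G] {Ω : Type} [MulAction G Ω] {N : Subgroup G}
    (hIH : IH (Nat.card N)) {X : Type} [Group X] [Finite X] (f : X →* G)
    (hker : ∀ s, f s = 1 → s ∈ Subgroup.center X) (hle : f.range ≤ N) (hne : f.range ≠ N) (hperf : commutator X = ⊤)
    (h1 : IsSimpleGroup (X ⧸ Subgroup.center X)) (h2 : ¬ IsMulCommutative (X ⧸ Subgroup.center X))
    (h3 : Cl (X ⧸ Subgroup.center X)) (h4 : ¬ Exc (X ⧸ Subgroup.center X))
    {ι : Type} [Finite ι] {x : ι → G} {r : ι → ℕ} (hx : PF x r)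
    (hcov : Cov Ω x) (hnorm : ∀ i s, x i * f s * (x i)⁻¹ ∈ f.range) (ω : Ω) :
    (∀ s, f s • ω = ω) ∨ ∃ i, (∀ s, x i * f s = f s * x i) ∧ x i • ω = ω := by
  obtain ⟨π, -, hπ, hπk⟩ := exists_proj f hker
  have hnK : ∀ i, x i ∈ Subgroup.normalizer (f.range : Set G) := fun i =>
    mem_norm_of_pow (hx.prime i).pos (hx.pow i) (by
      rintro _ ⟨s, rfl⟩
      exact hnorm i s)
  rcases mrule_IH (S := N) hIH (MulEquiv.refl N) hle hne (range_perf f hperf) π hπ hπk h1 h2 h3 h4 hx hcov hnK ω with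
    h | ⟨i, h5, h6⟩
  · exact Or.inl fun s => h ⟨s, rfl⟩
  · exact Or.inr ⟨i, fun s => h5 _ ⟨s, rfl⟩, h6⟩

/-- the M-rule for a homomorphism `f : X →* G` with central kernel, the hypothesis on the induced automorphisms -/
theorem mrule_fRC {G : Type} [Group G] [Finite G] {Ω : Type} [MulAction G Ω]
    {X : Type} [Group X] [Finite X] (f : X →* G)
    (hker : ∀ s, f s = 1 → s ∈ Subgroup.center X) (hperf : commutator X = ⊤)
    (h1 : IsSimpleGroup (X ⧸ Subgroup.center X)) (h2 : ¬ IsMulCommutative (X ⧸ Subgroup.center X))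
    {ι : Type} [Finite ι] {x : ι → G} {r : ι → ℕ} (hx : PF x r)
    (hcov : Cov Ω x) (hnorm : ∀ i s, x i * f s * (x i)⁻¹ ∈ f.range)
    (hRC : ∀ g ∈ Subgroup.closure (Set.range x), ∀ α : MulAut (X ⧸ Subgroup.center X),
      (∀ s s', f s' = g * f s * g⁻¹ → α (QuotientGroup.mk s) = QuotientGroup.mk s') →
        RCe (X ⧸ Subgroup.center X) α) (ω : Ω) :
    (∀ s, f s • ω = ω) ∨ ∃ i, (∀ s, x i * f s = f s * x i) ∧ x i • ω = ω := by
  obtain ⟨π, hπ', hπ, hπk⟩ := exists_proj f hker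
  have hnK : ∀ i, x i ∈ Subgroup.normalizer (f.range : Set G) := fun i =>
    mem_norm_of_pow (hx.prime i).pos (hx.pow i) (by
      rintro _ ⟨s, rfl⟩
      exact hnorm i s)
  rcases mrule h1 h2 x r hx.prime hx.inj hx.pow hx.comm f.range (range_perf f hperf) π hπ hπk hnK
    (fun g hg α hα => hRC g hg α fun s s' hs => by
      rw [← hπ', ← hπ']
      exact hα _ _ hs) ω (fun m _ => hcov _) with h | ⟨i, h5, h6⟩
  · exact Or.inl fun s => h ⟨s, rfl⟩
  · exact Or.inr ⟨i, fun s => h5 _ ⟨s, rfl⟩, h6⟩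

end mrule

section fix

variable {F : Type*} {V : Type*} [Field F] [AddCommGroup V] [Module F V] [FiniteDimensional F V]
  {B : LinearMap.BilinForm F V} {G : Type*} [Group G] {Ω : Type*} [MulAction G Ω] {N : Subgroup G}
  {ρ : ↥(Sp B) →* G}

/-- an element of `N` commuting with the field automorphism is in `ρ (ext Sp (V0))` (characteristic two) -/
theorem mem_range_ext (E : GEnv Ω N ρ) (h2 : (2 : F) = 0) {x : G} {Y : SS B} (hY : Lf ρ x Y) {n : ℕ}
    {b : Basis (Fin n) F V} (hb : ∀ i, Y (b i) = b i) {t : F} (ht0 : t ≠ 0) (ht : Y.l * Y.σ t = t) {z : G}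
    (hz : z ∈ N) (hxz : x * z = z * x) : ∃ m, ρ (ext ht0 ht hb m) = z := by
  rw [← E.range] at hz
  obtain ⟨s, rfl⟩ := hz
  have h1 := hY s
  rw [hxz, mul_inv_cancel_right] at h1
  obtain ⟨m, hm⟩ := exists_ext ht0 ht hb (E.inj h2 h1).symm
  exact ⟨m, by rw [hm]⟩

theorem ext_comm {x : G} {Y : SS B} (hY : Lf ρ x Y) {n : ℕ}
    {b : Basis (Fin n) F V} (hb : ∀ i, Y (b i) = b i) {t : F} (ht0 : t ≠ 0) (ht : Y.l * Y.σ t = t)
    (m : Sp (B0 ht0 ht)) : x * ρ (ext ht0 ht hb m) = ρ (ext ht0 ht hb m) * x := by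
  have h1 := hY (ext ht0 ht hb m)
  rw [ext_fix] at h1
  exact mul_inv_eq_iff_eq_mul.1 h1

/-- **every element commuting with the field automorphism normalises `ρ (ext Sp (V0))`** -/
theorem norm_fix (E : GEnv Ω N ρ) (h2 : (2 : F) = 0) {x : G} {Y : SS B} (hY : Lf ρ x Y) {n : ℕ}
    {b : Basis (Fin n) F V} (hb : ∀ i, Y (b i) = b i) {t : F} (ht0 : t ≠ 0) (ht : Y.l * Y.σ t = t) {z : G}
    (hxz : x * z = z * x) (m : Sp (B0 ht0 ht)) :
    ∃ m', z * ρ (ext ht0 ht hb m) * z⁻¹ = ρ (ext ht0 ht hb m') := by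
  have hN := E.env.norm
  have h1 : ρ (ext ht0 ht hb m) ∈ N := by
    rw [← E.range]
    exact ⟨_, rfl⟩
  have h3 := ext_comm hY hb ht0 ht m
  obtain ⟨m', hm'⟩ := mem_range_ext E h2 hY hb ht0 ht (hN.conj_mem _ h1 z) (by
    have h4 : x * z⁻¹ = z⁻¹ * x := by
      rw [eq_inv_mul_iff_mul_eq, ← mul_assoc, ← hxz, mul_inv_cancel_right]
    calc x * (z * ρ (ext ht0 ht hb m) * z⁻¹) = (x * z) * ρ (ext ht0 ht hb m) * z⁻¹ := by group
      _ = z * (x * ρ (ext ht0 ht hb m)) * z⁻¹ := by rw [hxz]; group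
      _ = z * ρ (ext ht0 ht hb m) * (x * z⁻¹) := by rw [h3]; group
      _ = z * ρ (ext ht0 ht hb m) * z⁻¹ * x := by rw [h4]; group)
  exact ⟨m', hm'.symm⟩

/-- an element centralising two transvections of `V0`... has a lift -/
theorem exists_lf_of_comm [Finite F] (E : GEnv Ω N ρ) (h2 : (2 : F) = 0) {e : V} (he : e ≠ 0) {c : F} (hc : c ≠ 0) {z : G}
    (hz : z * ρ (tv E.form e c) = ρ (tv E.form e c) * z) : ∃ M : SS B, Lf ρ z M := by
  have hN := E.env.norm
  exact exists_lf E.form h2 E.dim E.range E.ker he he hc hc (by rw [hz, mul_inv_cancel_right])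

end fix

section gr

variable {F : Type} {V : Type} [Field F] [Finite F] [AddCommGroup V] [Module F V] [FiniteDimensional F V]
  {B : LinearMap.BilinForm F V} {G : Type} [Group G] [Finite G] {Ω : Type} [MulAction G Ω]
  {N : Subgroup G} {ρ : ↥(Sp B) →* G} {ι : Type} [Finite ι] {x : ι → G} {r : ι → ℕ}

/-- a member centralising `ρ (ext X)`, `X` containing enough, is the field automorphism -/
theorem eq_of_cent (E : GEnv Ω N ρ) (h2 : (2 : F) = 0) (hx : PF x r) (j : ι) {Y : SS B} (hY : Lf ρ (x j) Y) {n : ℕ}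
    {b : Basis (Fin n) F V} (hb : ∀ i, Y (b i) = b i) {t : F} (ht0 : t ≠ 0) (ht : Y.l * Y.σ t = t) {i : ι}
    (hi : ∀ m, x i * ρ (ext ht0 ht hb m) = ρ (ext ht0 ht hb m) * x i) : i = j := by
  have hn : n = finrank F V := by rw [Module.finrank_eq_card_basis b, Fintype.card_fin]
  have hdim := E.dim
  obtain ⟨L, hL⟩ : ∃ L : SS B, Lf ρ (x i) L := by
    have h1 := hi (tv (nalt_B0 ht0 ht hb E.form) ⟨b ⟨0, by omega⟩, hb _⟩ 1)
    rw [ext_tv ht0 ht hb E.form] at h1
    exact exists_lf_of_comm E h2 (b.ne_zero _) (by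
      change (1 : F) * t⁻¹ ≠ 0
      rw [one_mul]
      exact inv_ne_zero ht0) h1
  obtain ⟨k, hk⟩ := cent_lift hb ht0 ht E.sp (x := (⟨x j, Y, hY⟩ : Lp ρ)) (y := (⟨x i, L, hL⟩ : Lp ρ)) (lf_rp.2 hY)
    (lf_rp.2 hL) (fun m => Subtype.ext (hi m))
  exact PF.eq_of_pow hx (k := k) (congrArg Subtype.val hk)

/-- **GR (1): no member is a field automorphism with `|F_0| > 2`, the other members are arbitrary** -/
theorem gr_field [Nonempty Ω] (E : GEnv Ω N ρ) (hIH : IH (Nat.card N)) (h2 : (2 : F) = 0) (hx : PF x r)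
    (hcov : Cov Ω x) (j : ι) {Y : SS B} (hY : Lf ρ (x j) Y) {n : ℕ} {b : Basis (Fin n) F V}
    (hb : ∀ i, Y (b i) = b i) (hσ : Y.σ ≠ 1) (h6 : 6 ≤ finrank F V ∨ 3 ≤ Nat.card (Fx Y.σ)) : False := by
  have hn : n = finrank F V := by rw [Module.finrank_eq_card_basis b, Fintype.card_fin]
  have hV := SpEnv_nontrivial E.sp
  obtain ⟨t, ht0, ht⟩ := exists_t E.form hb
  have hV0 : finrank (Fx Y.σ) (V0 Y) = n := by
    rw [Module.finrank_eq_card_basis (b0 hb), Fintype.card_fin]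
  have hfd : FiniteDimensional (Fx Y.σ) (V0 Y) := Module.Finite.of_basis (b0 hb)
  have hB0 := nalt_B0 ht0 ht hb E.form
  have hdim := E.dim
  obtain ⟨m, hm⟩ := exists_dim E.form
  have hc : 6 ≤ finrank (Fx Y.σ) (V0 Y) ∨ (finrank (Fx Y.σ) (V0 Y) = 4 ∧ 3 ≤ Nat.card (Fx Y.σ)) := by
    rw [hV0, hn]
    rcases h6 with h6 | h6
    · exact Or.inl h6
    · by_cases h7 : 6 ≤ finrank F V
      · exact Or.inl h7
      · exact Or.inr ⟨by omega, h6⟩
  have hc3 : 6 ≤ finrank (Fx Y.σ) (V0 Y) ∨ (finrank (Fx Y.σ) (V0 Y) = 4 ∧ 3 ≤ Nat.card (Fx Y.σ)) ∨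
      (finrank (Fx Y.σ) (V0 Y) ≠ 0 ∧ 4 ≤ Nat.card (Fx Y.σ)) := by
    rcases hc with h | h
    · exact Or.inl h
    · exact Or.inr (Or.inl h)
  have hc3' : 6 ≤ finrank (Fx Y.σ) (V0 Y) ∨ (finrank (Fx Y.σ) (V0 Y) = 4 ∧ 3 ≤ Nat.card (Fx Y.σ)) ∨
      4 ≤ Nat.card (Fx Y.σ) := by
    rcases hc with h | h
    · exact Or.inl h
    · exact Or.inr (Or.inl h)
  have hfin : Finite V := Module.finite_of_finite F
  have hfinS : Finite (Sp (B0 ht0 ht)) := Finite.of_injective
    (fun s : Sp (B0 ht0 ht) => (fun v : V0 Y => s.1 v)) (fun s s' h => by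
      apply Subtype.ext
      apply LinearEquiv.ext
      intro v
      exact congrFun h v)
  have hinj : Function.Injective (ρ.comp (ext ht0 ht hb)) := (E.inj h2).comp (ext_injective ht0 ht hb)
  obtain ⟨u, v, e, he0, he, hu, hv, hue, hve, huv⟩ := exists_triple E.form E.dim hb ht0 ht
  refine field_end E.sp h2 (x := (⟨x j, Y, hY⟩ : Lp ρ)) (lf_rp.2 hY) hσ (hx.prime j) (Subtype.ext (hx.pow j)) ht0 ht he0
    he hu hv hue hve huv fun ω => ?_
  have key : (∀ s, (ρ.comp (ext ht0 ht hb)) s • ω = ω) ∨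
      ∃ i, (∀ s, x i * (ρ.comp (ext ht0 ht hb)) s = (ρ.comp (ext ht0 ht hb)) s * x i) ∧ x i • ω = ω := by
    refine mrule_f hIH (ρ.comp (ext ht0 ht hb)) (fun s hs => ?_) ?_ (fun hN => ?_) (perfect_Sp hB0 hc3')
      (simple_Sp hB0 hc3) (ncomm_Sp hB0 hc3) (cl_Sp hB0 hc3) (not_exc_Sp hB0 hc) hx hcov (fun i s => ?_) ω
    · rw [hinj (hs.trans (map_one _).symm)]
      exact Subgroup.one_mem _
    · rintro _ ⟨s, rfl⟩
      rw [← E.range]
      exact ⟨_, rfl⟩
    · apply ext_not_surj E.sp hb ht0 ht hσ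
      intro s
      have h7 : ρ s ∈ (ρ.comp (ext ht0 ht hb)).range := by
        rw [hN, ← E.range]
        exact ⟨s, rfl⟩
      obtain ⟨m', hm'⟩ := h7
      exact ⟨m', E.inj h2 hm'⟩
    · obtain ⟨m', hm'⟩ := norm_fix E h2 hY hb ht0 ht (hx.comm j i) s
      exact ⟨m', hm'.symm⟩
  rcases key with h | ⟨i, h7, h8⟩
  · left
    have h5 := h (tv (nalt_B0 ht0 ht hb E.form) ⟨u, hu⟩ 1 * tv (nalt_B0 ht0 ht hb E.form) ⟨v, hv⟩ 1)
    rw [map_mul, MonoidHom.comp_apply, MonoidHom.comp_apply, ext_tv ht0 ht hb E.form, ext_tv ht0 ht hb E.form,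
      ← map_mul] at h5
    have h9 : (((1 : Fx Y.σ) : F) * t⁻¹) = t⁻¹ := one_mul _
    rw [h9] at h5
    exact h5
  · right
    rw [eq_of_cent E h2 hx j hY hb ht0 ht h7] at h8
    exact h8

end gr

end Cfsg.Agent.H327.RC
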