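import Cfsg.Agent.H327.RC.GEnv
import Cfsg.Agent.S0247

/-!
# S3510, row D, `Sp_4(q)`, `q` even, a field automorphism with `|F_0| = 2` (helper327)

`C_N(x_j) = Sp_4(2) = S_6`, M-rule for `A_6`.
-/

set_option autoImplicit false

namespace Cfsg.Agent.H327.RC

open Module MulAction Cfsg.Agent.H520.RC Cfsg.Agent.H106.RC Cfsg.Agent.H380.RC
open scoped commutatorElement

section perm

theorem perm_cent {z : Equiv.Perm (Fin 6)} (hz : ∀ k ∈ alternatingGroup (Fin 6), z * k = k * z) : z = 1 := by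
  by_contra hne
  obtain ⟨a, ha⟩ : ∃ a, z a ≠ a := by
    by_contra hno
    push Not at hno
    exact hne (Equiv.ext hno)
  obtain ⟨c, hc⟩ : ∃ c : Fin 6, c ∉ ({a, z a} : Finset (Fin 6)) := by
    by_contra hno
    push Not at hno
    have h1 : (Finset.univ : Finset (Fin 6)) ⊆ {a, z a} := fun c _ => hno c
    have h2 := (Finset.card_le_card h1).trans Finset.card_le_two
    rw [Finset.card_univ, Fintype.card_fin] at h2
    omega
  obtain ⟨d, hd⟩ : ∃ d : Fin 6, d ∉ ({a, z a, c} : Finset (Fin 6)) := by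
    by_contra hno
    push Not at hno
    have h1 : (Finset.univ : Finset (Fin 6)) ⊆ {a, z a, c} := fun c _ => hno c
    have h2 := (Finset.card_le_card h1).trans Finset.card_le_three
    rw [Finset.card_univ, Fintype.card_fin] at h2
    omega
  simp only [Finset.mem_insert, Finset.mem_singleton, not_or] at hc hd
  have h1 := hz (Equiv.swap a c * Equiv.swap c d) (by
    rw [Equiv.Perm.mem_alternatingGroup, Equiv.Perm.sign_mul, Equiv.Perm.sign_swap (Ne.symm hc.1),
      Equiv.Perm.sign_swap (Ne.symm hd.2.2)]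
    rfl)
  have h2 := congrArg (fun p : Equiv.Perm (Fin 6) => p a) h1
  simp only [Equiv.Perm.mul_apply] at h2
  rw [Equiv.swap_apply_of_ne_of_ne (Ne.symm hc.1) (Ne.symm hd.1), Equiv.swap_apply_left,
    Equiv.swap_apply_of_ne_of_ne (x := z a) (a := c) (b := d) (Ne.symm hc.2) (Ne.symm hd.2.1),
    Equiv.swap_apply_of_ne_of_ne (x := z a) (a := a) (b := c) ha (Ne.symm hc.2)] at h2
  exact hc.1 (z.injective h2)

variable {T : Type*} [Group T]

theorem comm_map (e : T ≃* Equiv.Perm (Fin 6)) : (commutator T).map e.toMonoidHom = alternatingGroup (Fin 6) := by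
  have h1 := Subgroup.map_commutator (⊤ : Subgroup T) ⊤ e.toMonoidHom
  rw [← commutator_def, ← MonoidHom.range_eq_map, MonoidHom.range_eq_top.2 e.surjective, ← commutator_def,
    alternatingGroup.commutator_perm_eq (by rw [Nat.card_fin]; norm_num)] at h1
  exact h1

/-- `T' = A_6` -/
noncomputable def commE (e : T ≃* Equiv.Perm (Fin 6)) : commutator T ≃* alternatingGroup (Fin 6) :=
  (e.subgroupMap (commutator T)).trans (MulEquiv.subgroupCongr (comm_map e))

theorem comm_cent (e : T ≃* Equiv.Perm (Fin 6)) {z : T} (hz : ∀ k ∈ commutator T, z * k = k * z) : z = 1 := by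
  apply e.injective
  rw [map_one]
  apply perm_cent
  intro k hk
  rw [← comm_map e] at hk
  obtain ⟨s, hs, rfl⟩ := hk
  change e z * e s = e s * e z
  rw [← map_mul, ← map_mul, hz s hs]

end perm

section altsix

variable {X : Type*} [Group X]

theorem perf_of_equiv (e : X ≃* alternatingGroup (Fin 6)) : commutator X = ⊤ := by
  have h0 : commutator (alternatingGroup (Fin 6)) = ⊤ :=
    commutator_alternatingGroup_eq_top (by rw [Nat.card_fin]; norm_num)
  have h1 := Subgroup.map_commutator (⊤ : Subgroup (alternatingGroup (Fin 6))) ⊤ e.symm.toMonoidHom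
  rw [← commutator_def, h0, ← MonoidHom.range_eq_map, MonoidHom.range_eq_top.2 e.symm.surjective] at h1
  exact h1.symm

theorem center_of_equiv (e : X ≃* alternatingGroup (Fin 6)) : Subgroup.center X = ⊥ := by
  rw [eq_bot_iff]
  intro z hz
  have h1 : e z ∈ Subgroup.center (alternatingGroup (Fin 6)) := by
    rw [Subgroup.mem_center_iff]
    intro a
    obtain ⟨a, rfl⟩ := e.surjective a
    rw [← map_mul, ← map_mul, Subgroup.mem_center_iff.1 hz]
  rw [alternatingGroup.center_eq_bot (by rw [Nat.card_fin]; norm_num)] at h1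
  exact Subgroup.mem_bot.2 (e.injective ((Subgroup.mem_bot.1 h1).trans (map_one e).symm))

/-- `X / Z(X) = A_6` -/
noncomputable def quotE (e : X ≃* alternatingGroup (Fin 6)) : (X ⧸ Subgroup.center X) ≃* alternatingGroup (Fin 6) :=
  ((QuotientGroup.quotientMulEquivOfEq (center_of_equiv e)).trans QuotientGroup.quotientBot).trans e

theorem alt_ncomm : ¬ IsMulCommutative (alternatingGroup (Fin 6)) := by
  intro h
  have h1 : Subgroup.center (alternatingGroup (Fin 6)) = ⊤ := by
    rw [eq_top_iff]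
    intro z _
    rw [Subgroup.mem_center_iff]
    intro g
    exact h.is_comm.comm g z
  rw [alternatingGroup.center_eq_bot (by rw [Nat.card_fin]; norm_num)] at h1
  have h2 : Nontrivial (alternatingGroup (Fin 6)) :=
    (alternatingGroup.isSimpleGroup (α := Fin 6) (by rw [Nat.card_fin]; norm_num)).toNontrivial
  exact bot_ne_top h1

theorem quot_simple (e : X ≃* alternatingGroup (Fin 6)) : IsSimpleGroup (X ⧸ Subgroup.center X) :=
  isSimple_cgr0 (quotE e).symm (alternatingGroup.isSimpleGroup (α := Fin 6) (by rw [Nat.card_fin]; norm_num))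

theorem quot_ncomm (e : X ≃* alternatingGroup (Fin 6)) : ¬ IsMulCommutative (X ⧸ Subgroup.center X) := by
  intro h
  refine alt_ncomm ⟨⟨fun a b => ?_⟩⟩
  apply (quotE e).symm.injective
  rw [map_mul, map_mul]
  exact h.is_comm.comm _ _

theorem quot_rce (hA6 : ∀ g : MulAut (alternatingGroup (Fin 6)), orderOf g ≠ 6 → RCe (alternatingGroup (Fin 6)) g)
    (e : X ≃* alternatingGroup (Fin 6)) {α : MulAut (X ⧸ Subgroup.center X)} (hα : orderOf α ≠ 6) :
    RCe (X ⧸ Subgroup.center X) α := by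
  have h1 := (hA6 (MulAut.congr (quotE e) α) (by
    rwa [← MulEquiv.coe_toMonoidHom, orderOf_injective _ (MulAut.congr (quotE e)).injective])).congr (quotE e).symm
  have h2 : MulAut.congr (quotE e).symm (MulAut.congr (quotE e) α) = α := by
    ext z
    simp [MulAut.congr]
  rwa [h2] at h1

end altsix

section ord

variable {G X ι : Type*} [Group G] [Group X] [Finite ι] {x : ι → G} {r : ι → ℕ}

/-- the order of the induced automorphism divides the product of the orders of the members acting nontrivially -/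
theorem ord_dvd (hx : PF x r) (j : ι) (f : X →* G) (hker : ∀ s, f s = 1 → s ∈ Subgroup.center X)
    (hnorm : ∀ i s, x i * f s * (x i)⁻¹ ∈ f.range) (hj : ∀ s, x j * f s = f s * x j)
    {g : G} (hg : g ∈ Subgroup.closure (Set.range x)) {α : MulAut (X ⧸ Subgroup.center X)}
    (hα : ∀ s s', f s' = g * f s * g⁻¹ → α (QuotientGroup.mk s) = QuotientGroup.mk s') {p : ℕ} (hp : p.Prime)
    (hpα : p ∣ orderOf α) : ∃ i, i ≠ j ∧ r i = p := by
  classical
  have hfi : Fintype ι := Fintype.ofFinite ι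
  set P : ℕ := ∏ i ∈ Finset.univ.erase j, r i with hP
  have key : (∀ i, Commute g (x i)) ∧ ∀ s, Commute (g ^ P) (f s) := by
    clear hα
    induction hg using Subgroup.closure_induction with
    | mem y hy =>
      obtain ⟨i, rfl⟩ := hy
      refine ⟨fun k => hx.comm i k, fun s => ?_⟩
      by_cases hij : i = j
      · rw [hij]
        exact Commute.pow_left (hj s) P
      · obtain ⟨c, hc⟩ : r i ∣ P := Finset.dvd_prod_of_mem r (Finset.mem_erase.2 ⟨hij, Finset.mem_univ i⟩)
        rw [hc, pow_mul, hx.pow, one_pow]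
        exact Commute.one_left _
    | one => exact ⟨fun i => Commute.one_left _, fun s => by rw [one_pow]; exact Commute.one_left _⟩
    | mul a b _ hb iha ihb =>
      refine ⟨fun i => (iha.1 i).mul_left (ihb.1 i), fun s => ?_⟩
      have hab : Commute a b := by
        have h1 : Subgroup.closure (Set.range x) ≤ Subgroup.centralizer {a} := by
          rw [Subgroup.closure_le]
          rintro _ ⟨i, rfl⟩
          exact Subgroup.mem_centralizer_singleton_iff.2 (iha.1 i).symm
        exact (Subgroup.mem_centralizer_singleton_iff.1 (h1 hb)).symm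
      rw [hab.mul_pow]
      exact (iha.2 s).mul_left (ihb.2 s)
    | inv a _ iha =>
      refine ⟨fun i => (iha.1 i).inv_left, fun s => ?_⟩
      rw [inv_pow]
      exact (iha.2 s).inv_left
  have hgn : ∀ s, ∃ s', f s' = g * f s * g⁻¹ := by
    have h1 : Subgroup.closure (Set.range x) ≤ Subgroup.normalizer (f.range : Set G) := by
      rw [Subgroup.closure_le]
      rintro _ ⟨i, rfl⟩
      exact mem_norm_of_pow (hx.prime i).pos (hx.pow i) (by
        rintro _ ⟨s, rfl⟩
        exact hnorm i s)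
    intro s
    exact (Subgroup.mem_normalizer_iff.1 (h1 hg) (f s)).1 ⟨s, rfl⟩
  have hpow : ∀ k : ℕ, ∀ s, ∃ s', f s' = g ^ k * f s * (g ^ k)⁻¹ ∧ (α ^ k) (QuotientGroup.mk s) = QuotientGroup.mk s' := by
    intro k
    induction k with
    | zero => exact fun s => ⟨s, by simp, rfl⟩
    | succ k ih =>
      intro s
      obtain ⟨s1, h1, h2⟩ := ih s
      obtain ⟨s2, h3⟩ := hgn s1
      refine ⟨s2, ?_, ?_⟩
      · rw [h3, h1, pow_succ']
        group
      · rw [pow_succ', MulAut.mul_apply, h2]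
        exact hα _ _ h3
  have hone : α ^ P = 1 := by
    apply MulEquiv.ext
    intro y
    obtain ⟨s, rfl⟩ := QuotientGroup.mk_surjective y
    obtain ⟨s', h1, h2⟩ := hpow P s
    rw [h2, (key.2 s).eq, mul_inv_cancel_right] at *
    change QuotientGroup.mk s' = QuotientGroup.mk s
    rw [eq_comm, QuotientGroup.eq]
    apply hker
    rw [map_mul, map_inv, h1, inv_mul_cancel]
  have h1 : p ∣ P := hpα.trans (orderOf_dvd_of_pow_eq_one hone)
  rw [hP, hp.prime.dvd_finsetProd_iff] at h1
  obtain ⟨i, hi, h2⟩ := h1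
  exact ⟨i, (Finset.mem_erase.1 hi).1, ((Nat.prime_dvd_prime_iff_eq hp (hx.prime i)).1 h2).symm⟩

end ord

section six

/-- **the M-rule for `A_6 < S_6`** -/
theorem six_rule {G Ω T ι : Type} [Group G] [Finite G] [MulAction G Ω] [Group T] [Finite T] [Finite ι]
    {x : ι → G} {r : ι → ℕ}
    (hA6 : ∀ g : MulAut (alternatingGroup (Fin 6)), orderOf g ≠ 6 → RCe (alternatingGroup (Fin 6)) g)
    (e6 : T ≃* Equiv.Perm (Fin 6)) (hx : PF x r) (hcov : Cov Ω x) (f : T →* G) (hf : Function.Injective f)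
    (j : ι) (hj : ∀ s, x j * f s = f s * x j) (hnorm : ∀ i s, ∃ s', x i * f s * (x i)⁻¹ = f s')
    (hno : (∀ i, i ≠ j → r i ≠ 2) ∨ (∀ i, i ≠ j → r i ≠ 3)) (ω : Ω) :
    (∀ s ∈ commutator T, f s • ω = ω) ∨ ∃ i, (∀ s, x i * f s = f s * x i) ∧ x i • ω = ω := by
  let φ : (commutator T) →* G := f.comp (commutator T).subtype
  have hφ : ∀ s : commutator T, φ s = f (s : T) := fun s => rfl
  have hφinj : Function.Injective φ := hf.comp Subtype.val_injective
  have hker : ∀ s, φ s = 1 → s ∈ Subgroup.center (commutator T) := fun s hs => by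
    rw [hφinj (hs.trans (map_one _).symm)]
    exact Subgroup.one_mem _
  have hn : ∀ i s, x i * φ s * (x i)⁻¹ ∈ φ.range := by
    intro i s
    choose ψ hψ using hnorm i
    let Ψ : T →* T := MonoidHom.mk' ψ (fun m m' => by
      apply hf
      rw [← hψ, map_mul, map_mul, ← hψ, ← hψ]
      group)
    have h1 : Ψ (s : T) ∈ commutator T := by
      have h2 : (commutator T).map Ψ ≤ commutator T := by
        rw [commutator_def, Subgroup.map_commutator]
        exact Subgroup.commutator_mono le_top le_top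
      exact h2 ⟨s, s.2, rfl⟩
    exact ⟨⟨Ψ (s : T), h1⟩, (hψ (s : T)).symm⟩
  rcases mrule_fRC φ hker (perf_of_equiv (commE e6)) (quot_simple (commE e6)) (quot_ncomm (commE e6)) hx hcov hn
    (fun g hg α hα => quot_rce hA6 (commE e6) fun h6 => by
      obtain ⟨i, hi, hi2⟩ := ord_dvd hx j φ hker hn (fun s => hj s) hg hα Nat.prime_two (by rw [h6]; norm_num)
      obtain ⟨k, hk, hk3⟩ := ord_dvd hx j φ hker hn (fun s => hj s) hg hα Nat.prime_three (by rw [h6]; norm_num)
      rcases hno with h | h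
      · exact h i hi hi2
      · exact h k hk hk3) ω with h | ⟨i, h7, h8⟩
  · left
    intro s hs
    exact h ⟨s, hs⟩
  · right
    refine ⟨i, fun m => ?_, h8⟩
    obtain ⟨m', hm'⟩ := hnorm i m
    have h9 : m' * m⁻¹ = 1 := by
      refine comm_cent e6 fun k hk => ?_
      have hk1 : m⁻¹ * k * m ∈ commutator T := by
        have : (commutator T).Normal := inferInstance
        simpa using this.conj_mem k hk m⁻¹
      have h10 : x i * f (m⁻¹ * k * m) = f (m⁻¹ * k * m) * x i := h7 ⟨m⁻¹ * k * m, hk1⟩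
      have h11 : x i * f k = f k * x i := h7 ⟨k, hk⟩
      apply hf
      rw [map_mul, map_mul, map_inv] at h10
      rw [map_mul, map_mul, map_mul, map_mul, map_inv, ← hm']
      generalize f m = a at *
      generalize f k = c at *
      have h12 : (x i)⁻¹ * (a⁻¹ * c * a) = (a⁻¹ * c * a) * (x i)⁻¹ := by
        rw [inv_mul_eq_iff_eq_mul, ← mul_assoc, h10, mul_inv_cancel_right]
      calc x i * a * (x i)⁻¹ * a⁻¹ * c = x i * a * ((x i)⁻¹ * (a⁻¹ * c * a)) * a⁻¹ := by group
        _ = (x i * c) * a * (x i)⁻¹ * a⁻¹ := by rw [h12]; group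
        _ = c * (x i * a * (x i)⁻¹ * a⁻¹) := by rw [h11]; group
    rw [mul_inv_eq_one.1 h9] at hm'
    exact mul_inv_eq_iff_eq_mul.1 hm'

end six

section gr

variable {F : Type} {V : Type} [Field F] [Finite F] [AddCommGroup V] [Module F V] [FiniteDimensional F V]
  {B : LinearMap.BilinForm F V} {G : Type} [Group G] [Finite G] {Ω : Type} [MulAction G Ω]
  {N : Subgroup G} {ρ : ↥(Sp B) →* G} {ι : Type} [Finite ι] {x : ι → G} {r : ι → ℕ}

/-- `tv u 1 * tv v 1` is a commutator -/
theorem tv_comm {F V : Type*} [Field F] [AddCommGroup V] [Module F V] {B : LinearMap.BilinForm F V} (hB : NAlt B)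
    (h2 : (2 : F) = 0) {u v : V} (huv : B u v = 1) : tv hB u 1 * tv hB v 1 ∈ commutator (Sp B) := by
  have h0 : ∀ w : V, w + w = 0 := fun w => by rw [← two_smul F w, h2, zero_smul]
  have hneg : ∀ c : F, -c = c := fun c => by
    rw [neg_eq_iff_add_eq_zero, ← two_mul, h2, zero_mul]
  have h1 : (tv hB (u + v) 1).1 u = v := by
    rw [tv_apply, map_add, hB.alt, huv, zero_add, mul_one, one_smul, ← add_assoc, h0, zero_add]
  have h3 : tv hB v 1 = tv hB (u + v) 1 * tv hB u 1 * (tv hB (u + v) 1)⁻¹ := by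
    rw [← SS.cj_tg, cj_tv]
    change tv hB v 1 = tv hB ((tv hB (u + v) 1).1 u) _
    rw [h1, map_one, one_mul]
    change _ = tv hB v (1 : F)⁻¹
    rw [inv_one]
  have h4 : tv hB u 1 = (tv hB u 1)⁻¹ := by rw [tv_inv, hneg]
  have h5 : tv hB u 1 * tv hB v 1 = ⁅tv hB u 1, tv hB (u + v) 1⁆ := by
    rw [commutatorElement_def, h3]
    nth_rewrite 2 [h4]
    group
  rw [h5]
  exact Subgroup.commutator_mem_commutator (Subgroup.mem_top _) (Subgroup.mem_top _)

omit [FiniteDimensional F V] in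
/-- `Sp (V0) = S_6` for `|F_0| = 2` -/
theorem exists_six {Y : SS B} {b : Basis (Fin 4) F V} (hB : NAlt B)
    (hb : ∀ i, Y (b i) = b i) {t : F} (ht0 : t ≠ 0) (ht : Y.l * Y.σ t = t) (hq : Nat.card (Fx Y.σ) = 2) :
    Nonempty (Sp (B0 ht0 ht) ≃* Equiv.Perm (Fin 6)) := by
  have hB0 := nalt_B0 ht0 ht hb hB
  have hfd : FiniteDimensional (Fx Y.σ) (V0 Y) := Module.Finite.of_basis (b0 hb)
  have hV0 : finrank (Fx Y.σ) (V0 Y) = 4 := by
    rw [Module.finrank_eq_card_basis (b0 hb), Fintype.card_fin]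
  have : Fintype (Fx Y.σ) := Fintype.ofFinite _
  obtain ⟨e1⟩ := exists_spE hB0 (m := 2) (by rw [hV0])
  obtain ⟨e2⟩ := Cfsg.Agent.S0247.result (F := Fx Y.σ) (by rw [← Nat.card_eq_fintype_card, hq])
  exact ⟨e1.symm.trans e2⟩

/-- **a field automorphism with `|F_0| = 2`, the other members not of orders two and three** -/
theorem gr_field_two [Nonempty Ω]
    (hA6 : ∀ g : MulAut (alternatingGroup (Fin 6)), orderOf g ≠ 6 → RCe (alternatingGroup (Fin 6)) g)
    (E : GEnv Ω N ρ) (h2 : (2 : F) = 0) (hx : PF x r)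
    (hcov : Cov Ω x) (j : ι) {Y : SS B} (hY : Lf ρ (x j) Y) {b : Basis (Fin 4) F V}
    (hb : ∀ i, Y (b i) = b i) (hσ : Y.σ ≠ 1) (hq : Nat.card (Fx Y.σ) = 2)
    (hno : (∀ i, i ≠ j → r i ≠ 2) ∨ (∀ i, i ≠ j → r i ≠ 3)) : False := by
  have hV := SpEnv_nontrivial E.sp
  obtain ⟨t, ht0, ht⟩ := exists_t E.form hb
  have hB0 := nalt_B0 ht0 ht hb E.form
  have hfin : Finite V := Module.finite_of_finite F
  have hfinS : Finite (Sp (B0 ht0 ht)) := Finite.of_injective
    (fun s : Sp (B0 ht0 ht) => (fun v : V0 Y => s.1 v)) (fun s s' h => by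
      apply Subtype.ext
      apply LinearEquiv.ext
      intro v
      exact congrFun h v)
  have hinj : Function.Injective (ρ.comp (ext ht0 ht hb)) := (E.inj h2).comp (ext_injective ht0 ht hb)
  obtain ⟨e6⟩ := exists_six E.form hb ht0 ht hq
  obtain ⟨u, v, e, he0, he, hu, hv, hue, hve, huv⟩ := exists_triple E.form E.dim hb ht0 ht
  refine field_end E.sp h2 (x := (⟨x j, Y, hY⟩ : Lp ρ)) (lf_rp.2 hY) hσ (hx.prime j) (Subtype.ext (hx.pow j)) ht0 ht he0
    he hu hv hue hve huv fun ω => ?_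
  rcases six_rule hA6 e6 hx hcov (ρ.comp (ext ht0 ht hb)) hinj j (fun s => ext_comm hY hb ht0 ht s)
    (fun i s => norm_fix E h2 hY hb ht0 ht (hx.comm j i) s) hno ω with h | ⟨i, h7, h8⟩
  · left
    have h5 := h (tv hB0 ⟨u, hu⟩ 1 * tv hB0 ⟨v, hv⟩ 1) (tv_comm hB0 (Subtype.ext h2) (by
      apply Subtype.ext
      rw [B0_apply]
      change t⁻¹ * B u v = 1
      rw [huv, inv_mul_cancel₀ ht0]))
    rw [map_mul, MonoidHom.comp_apply, MonoidHom.comp_apply, ext_tv ht0 ht hb E.form, ext_tv ht0 ht hb E.form,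
      ← map_mul] at h5
    have h9 : (((1 : Fx Y.σ) : F) * t⁻¹) = t⁻¹ := one_mul _
    rw [h9] at h5
    exact h5
  · right
    rw [eq_of_cent E h2 hx j hY hb ht0 ht h7] at h8
    exact h8

end gr

section ev

open Cfsg.Agent.H385.RC

/-- the same in the environment `Ev` -/
theorem ev_field_two {F V G Ω : Type} [Field F] [Finite F] [AddCommGroup V] [Module F V] [FiniteDimensional F V]
    [Group G] [Finite G] [DistribMulAction G V] {B : LinearMap.BilinForm F V} {N : Subgroup G} (h : Ev B N)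
    [MulAction G Ω] [Nonempty Ω] (hE : Env G Ω N)
    (hA6 : ∀ g : MulAut (alternatingGroup (Fin 6)), orderOf g ≠ 6 → RCe (alternatingGroup (Fin 6)) g)
    {ι : Type} [Finite ι] {x : ι → G} {r : ι → ℕ} (hx : PF x r) (hcov : Cov Ω x) (hdim : finrank F V = 4) (i : ι)
    (hi : x i ∉ N) (hc : ∀ c : F, (∀ v : V, x i • c • v = c • x i • v) → c = 0 ∨ c = 1)
    (hno : (∀ k, k ≠ i → r k ≠ 2) ∨ (∀ k, k ≠ i → r k ≠ 3)) : False := by
  obtain ⟨ρ, hρ, E, hL⟩ := Ev_sp h hE (by omega)
  choose M hMl hMv hM using fun i => hL (x i)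
  have hi0 : ¬ (M i).IsLin := by
    intro h1
    apply hi
    rw [h.mem]
    intro a v
    rw [← hMv, ← hMv, h1.map_smul]
  obtain ⟨Y, b, hY, hb, hord⟩ := exists_Y E (hM i) (hx.prime i) (hx.pow i) hi0
  have hσ : Y.σ ≠ 1 := by
    intro h
    rw [h, orderOf_one] at hord
    exact (hx.prime i).ne_one hord.symm
  have hb' : ∀ k, Y ((b.reindex (finCongr hdim)) k) = (b.reindex (finCongr hdim)) k := fun k => by
    rw [Basis.reindex_apply]
    exact hb _
  refine gr_field_two hA6 (GEnv.of_sp E) h.two hx hcov i hY hb' hσ ?_ hno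
  have hV := SpEnv_nontrivial E
  obtain ⟨v, hv⟩ := _root_.exists_ne (0 : V)
  obtain ⟨a, ha, h1⟩ := E.lf_unique (hM i) hY
  rw [Nat.card_eq_two_iff' (0 : Fx Y.σ)]
  refine ⟨1, one_ne_zero, fun c hc0 => ?_⟩
  have h2 : ∀ v : V, x i • (c : F) • v = (c : F) • x i • v := by
    intro v
    have h3 := Y.map_smul (c : F) v
    rw [mem_Fx.1 c.2, h1, h1, hMv, hMv, smul_comm (c : F) a, smul_right_injective V ha |>.eq_iff] at h3
    exact h3
  rcases hc (c : F) h2 with h3 | h3
  · exact absurd (Subtype.ext h3) hc0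
  · exact Subtype.ext h3

end ev

end Cfsg.Agent.H327.RC
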